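import Groth.Agent.H20SS.Orbit
import Groth.Agent.H20SS.Weight
import Groth.Prelude.Def_HMNum
import Mathlib.AlgebraicGeometry.Morphisms.UniversallyClosed
import Mathlib.AlgebraicGeometry.Morphisms.Affine

/-!
# Non-vanishing loci of sections of an ample bundle on a proper scheme are affine
-/

set_option autoImplicit false
set_option linter.style.haveILetI false
set_option backward.isDefEq.respectTransparency false

universe u

open CategoryTheory CategoryTheory.Limits AlgebraicGeometry TopologicalSpace Opposite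

noncomputable section

namespace Groth.Agent.H20Num

open Groth.Agent.H20SS

theorem dense_range_toSpecΓ {X : Scheme.{u}} (O : X.Opens) (hO : IsCompact (O : Set X)) :
    Dense (Set.range O.toSpecΓ) := by
  refine (PrimeSpectrum.isTopologicalBasis_basic_opens.dense_iff (s := Set.range O.toSpecΓ)).2 ?_
  rintro _ ⟨r, rfl⟩ hne'
  by_contra hem
  have h0 : X.basicOpen r = ⊥ := by
    refine eq_bot_iff.2 fun x hx => ?_
    let w : O.toScheme := ⟨x, X.basicOpen_le r hx⟩
    have hw : w ∈ O.toSpecΓ ⁻¹ᵁ PrimeSpectrum.basicOpen r := by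
      rw [O.toSpecΓ_preimage_basicOpen r]
      exact hx
    let y : PrimeSpectrum Γ(X, O) := O.toSpecΓ w
    exact (hem ⟨y, hw, ⟨w, rfl⟩⟩).elim
  have hnil : IsNilpotent r := (Scheme.isNilpotent_iff_basicOpen_eq_bot_of_isCompact hO r).2 h0
  obtain ⟨q, hq'⟩ := hne'
  obtain ⟨m, hm⟩ := hnil
  exact hq' (q.isPrime.mem_of_pow_mem m (by rw [hm]; exact zero_mem _))

/-- An open of a scheme proper over an affine one, cut into affines by functions having inverses
on the members of a cover, is affine. -/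
theorem isAffineOpen_of_inverses {X S : Scheme.{u}} [IsAffine S] (f : X ⟶ S) [UniversallyClosed f] (O : X.Opens)
    {ι : Type*} [Finite ι] (U : ι → X.Opens) (hU : ∀ x, ∃ i, x ∈ U i) (h : ι → Γ(X, O))
    (hb : ∀ i, X.basicOpen (h i) = O ⊓ U i) (haff : ∀ i, IsAffineOpen (O ⊓ U i)) (g : ∀ i, Γ(X, U i))
    (hg : ∀ i, X.presheaf.map (homOfLE (inf_le_right : O ⊓ U i ≤ U i)).op (g i) *
      X.presheaf.map (homOfLE (inf_le_left : O ⊓ U i ≤ O)).op (h i) = 1) :
    IsAffineOpen O := by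
  have hsup : O = ⨆ i, O ⊓ U i := by
    refine le_antisymm (fun x hx => ?_) (iSup_le fun i => inf_le_left)
    obtain ⟨i, hi⟩ := hU x
    exact Opens.mem_iSup.2 ⟨i, hx, hi⟩
  have hO : IsCompact (O : Set X) := by
    rw [hsup, Opens.coe_iSup]
    exact isCompact_iUnion fun i => (haff i).isCompact
  refine isAffineOpen_of_isAffineOpen_basicOpen O (Set.range h) ?_
    (Set.forall_mem_range.2 fun i => hb i ▸ haff i)
  by_contra hne
  obtain ⟨p, hp, hple⟩ := Ideal.exists_le_maximal _ hne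
  haveI := hp.isPrime
  let p₀ : Spec Γ(X, O) := ⟨p, inferInstance⟩
  let qS : Spec Γ(X, O) ⟶ S := Spec.map ((O.ι ≫ f).appTop ≫ O.topIso.hom) ≫ S.isoSpec.inv
  have hq : O.ι ≫ f = O.toSpecΓ ≫ qS := by
    symm
    simp only [qS, Scheme.Opens.toSpecΓ, Category.assoc, ← Spec.map_comp_assoc, Iso.hom_inv_id, Category.comp_id]
    rw [← Category.assoc, ← Scheme.toSpecΓ_naturality (O.ι ≫ f), Category.assoc]
    exact (congrArg ((O.ι ≫ f) ≫ ·) S.isoSpec.hom_inv_id).trans (Category.comp_id _)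
  let π₁ := pullback.fst f qS
  let π₂ := pullback.snd f qS
  let γ : O.toScheme ⟶ pullback f qS := pullback.lift O.ι O.toSpecΓ hq
  have hd : Dense (Set.range O.toSpecΓ) := dense_range_toSpecΓ O hO
  have hcl : IsClosed (π₂ '' closure (Set.range γ)) := π₂.isClosedMap _ isClosed_closure
  have hsub : Set.range O.toSpecΓ ⊆ π₂ '' closure (Set.range γ) := by
    rintro _ ⟨w, rfl⟩
    exact ⟨γ w, subset_closure ⟨w, rfl⟩, by rw [← Scheme.Hom.comp_apply, pullback.lift_snd]⟩
  obtain ⟨z, hz, hzp⟩ := (hd.mono hsub).closure_eq.symm.le.trans hcl.closure_eq.le (Set.mem_univ p₀)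
  obtain ⟨i, hi⟩ := hU (π₁ z)
  let D := π₁ ⁻¹ᵁ U i
  let hi' : Γ(Spec Γ(X, O), ⊤) := (Scheme.ΓSpecIso Γ(X, O)).inv (h i)
  let s : Γ(pullback f qS, D) := π₁.app (U i) (g i) * π₂.appLE ⊤ D le_top hi'
  have hs0 : z ∉ (pullback f qS).basicOpen s := by
    intro hzs
    rw [Scheme.basicOpen_mul] at hzs
    have h2 := (SetLike.ext_iff.1 (Scheme.basicOpen_appLE π₂ D ⊤ le_top hi') z).1 hzs.2
    have h3 : π₂ z ∈ (Spec Γ(X, O)).basicOpen hi' := h2.2
    rw [hzp] at h3
    have h4 : p₀ ∈ PrimeSpectrum.basicOpen (h i) :=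
      (SetLike.ext_iff.1 (basicOpen_eq_of_affine (h i)) p₀).1 h3
    exact h4 (hple (Ideal.subset_span ⟨i, rfl⟩))
  refine notMem_basicOpen_of_mem_closure γ (s - 1) le_rfl le_rfl ?_ hz ?_
  · have e : γ ⁻¹ᵁ D ≤ O.ι ⁻¹ᵁ (O ⊓ U i) := fun w (hw : π₁ (γ w) ∈ U i) => ⟨w.2, by
      rw [← Scheme.Hom.comp_apply, pullback.lift_fst] at hw; exact hw⟩
    have e1 : γ.appLE D (γ ⁻¹ᵁ D) le_rfl (π₁.app (U i) (g i)) =
        O.ι.appLE (O ⊓ U i) (γ ⁻¹ᵁ D) e (X.presheaf.map (homOfLE inf_le_right).op (g i)) := by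
      rw [appLE_res, Scheme.Hom.app_eq_appLE, appLE_appLE]
      exact appLE_congr_hom (pullback.lift_fst _ _ _) _ _
    have e2 : γ.appLE D (γ ⁻¹ᵁ D) le_rfl (π₂.appLE ⊤ D le_top hi') =
        O.ι.appLE (O ⊓ U i) (γ ⁻¹ᵁ D) e (X.presheaf.map (homOfLE inf_le_left).op (h i)) := by
      rw [appLE_res, appLE_appLE]
      refine (appLE_congr_hom (pullback.lift_snd O.ι O.toSpecΓ hq) _ _).trans ?_
      rw [Scheme.Hom.appLE, CommRingCat.comp_apply, show O.toSpecΓ.app ⊤ = O.toSpecΓ.appTop from rfl,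
        Scheme.Opens.toSpecΓ_appTop, CommRingCat.comp_apply, Iso.inv_hom_id_apply, Scheme.Opens.topIso_inv,
        Scheme.Opens.ι_appLE]
      rw [Scheme.Opens.toScheme_presheaf_map]
      exact congr($((X.presheaf.map_comp _ _).symm.trans (congrArg X.presheaf.map (Subsingleton.elim _ _))).hom (h i))
    rw [map_sub, map_mul, map_one, e1, e2, ← map_mul, hg i, map_one, sub_self]
  · have h1 : z ∈ (pullback f qS).basicOpen (1 : Γ(pullback f qS, D)) := by
      rw [Scheme.basicOpen_of_isUnit _ isUnit_one]; exact hi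
    by_contra h2
    exact hs0 (mem_basicOpen_of_sub_notMem s 1 h1 h2)

variable {S : Scheme.{u}} {G X : Over S} [GrpObj G] {a : AlgGrp.Action G X} (B : GLinSh.LinBun G a)

/-- The members of an ample cover can be given a common weight. -/
theorem exists_uniform_cover (hB : HMNum.AmpleCover B) :
    ∃ (N r : ℕ) (f : Fin r → Γ(B.V.left, ⊤)), 0 < N ∧ (∀ i, GLinSh.HasWeight B.atlas.chart N (f i)) ∧
      (∀ i, IsAffineOpen (nvOpen B.π (f i))) ∧ ∀ x, ∃ i, x ∈ nvOpen B.π (f i) := by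
  obtain ⟨hcpt, hcov⟩ := hB
  choose n f hn hf hxf U hU haff using hcov
  have e : ∀ x, U x = nvOpen B.π (f x) := fun x => Opens.ext ((hU x).trans (coe_nvOpen B.atlas (hf x)).symm)
  obtain ⟨s, hs⟩ := isCompact_univ.elim_finite_subcover (fun x => (U x : Set X.left)) (fun x => (U x).2)
    fun x _ => Set.mem_iUnion.2 ⟨x, by rw [hU]; exact hxf x⟩
  let N := ∏ x ∈ s, n x
  let j := s.equivFin.symm
  have hdvd : ∀ i, n (j i) ∣ N := fun i => Finset.dvd_prod_of_mem n (j i).2
  have hN : 0 < N := Finset.prod_pos fun x _ => hn x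
  have hpos : ∀ i, 0 < N / n (j i) := fun i => Nat.div_pos (Nat.le_of_dvd hN (hdvd i)) (hn _)
  refine ⟨N, _, fun i => f (j i) ^ (N / n (j i)), hN, fun i => ?_, fun i => ?_, fun x => ?_⟩
  · have := hasWeight_pow B.atlas (hf (j i)) (N / n (j i))
    rwa [Nat.div_mul_cancel (hdvd i)] at this
  · rw [nvOpen_pow B.atlas (hf _) (hpos i), ← e]
    exact haff _
  · obtain ⟨z, hz, hxz⟩ := Set.mem_iUnion₂.1 (hs (Set.mem_univ x))
    refine ⟨j.symm ⟨z, hz⟩, ?_⟩
    rw [nvOpen_pow B.atlas (hf _) (hpos _), Equiv.apply_symm_apply, ← e]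
    exact hxz

/-- **On a proper scheme every non-vanishing locus of a positive power of an ample bundle is affine.** -/
theorem isAffineOpen_nvOpen [IsAffine S] [UniversallyClosed X.hom] (hB : HMNum.AmpleCover B) {n : ℕ}
    (hn : 0 < n) {s : Γ(B.V.left, ⊤)} (hs : GLinSh.HasWeight B.atlas.chart n s) :
    IsAffineOpen (nvOpen B.π s) := by
  obtain ⟨N, r, f, hN, hf, haff, hcov⟩ := exists_uniform_cover B hB
  have hs' : GLinSh.HasWeight B.atlas.chart (N * n) (s ^ N) := hasWeight_pow B.atlas hs N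
  have hf' : ∀ i, GLinSh.HasWeight B.atlas.chart (N * n) (f i ^ n) := fun i =>
    Nat.mul_comm n N ▸ hasWeight_pow B.atlas (hf i) n
  have es := nvOpen_pow B.atlas hs hN
  have ef := fun i => nvOpen_pow B.atlas (hf i) hn
  choose h hh using fun i => exists_isRatio B.atlas hs' (hf' i) (W := nvOpen B.π s) es.ge
  choose g hg using fun i => exists_isRatio B.atlas (hf' i) hs' (W := nvOpen B.π (f i)) (ef i).ge
  refine isAffineOpen_of_inverses X.hom _ (fun i => nvOpen B.π (f i)) hcov h (fun i => ?_)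
    (fun i => ?_) g fun i => ?_
  · rw [basicOpen_of_isRatio B.atlas hs' (hf' i) es.ge (hh i), ef]
  · rw [inf_comm]
    exact isAffineOpen_nvOpen_inf B.atlas (hf i) hN hs (haff i)
  · set W := nvOpen B.π s ⊓ nvOpen B.π (f i)
    refine IsRatio.eq B.atlas hs' (W := W) (inf_le_left.trans es.ge) (f := s ^ N) (g := s ^ N) ?_
      (isRatio_self W (s ^ N))
    have h1 := (hh i).res (inf_le_left : W ≤ nvOpen B.π s)
    have h2 := (hg i).res (inf_le_right : W ≤ nvOpen B.π (f i))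
    unfold IsRatio at h1 h2 ⊢
    have hle : B.π.left ⁻¹ᵁ W ⊓ B.V.left.basicOpen (s ^ N) ≤
        B.π.left ⁻¹ᵁ W ⊓ B.V.left.basicOpen (f i ^ n) := by
      intro p hp
      refine ⟨hp.1, ?_⟩
      have hb : B.π.left p ∈ X.left.basicOpen (X.left.presheaf.map (homOfLE inf_le_left).op (h i) : Γ(X.left, W)) := by
        rw [Scheme.basicOpen_res, basicOpen_of_isRatio B.atlas hs' (hf' i) es.ge (hh i), ef]
        exact ⟨hp.1, hp.1⟩
      have hp' : p ∈ B.V.left.basicOpen (resF B.π W (s ^ N) (f i ^ n)) := by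
        rw [← h1, Scheme.basicOpen_mul, Scheme.basicOpen_appLE, Scheme.basicOpen_res]
        rw [Scheme.basicOpen_res] at hb
        exact ⟨⟨hp, hb⟩, (SetLike.ext_iff.1 (Scheme.basicOpen_res _ _ _) p).2 ⟨hp, hp.2⟩⟩
      rw [Scheme.basicOpen_res] at hp'
      exact hp'.2
    have h3 := congrArg (B.V.left.presheaf.map (homOfLE hle).op) h2
    rw [map_mul, res_res, res_res, res_appLE] at h3
    rw [map_mul, _root_.mul_assoc]
    exact (congrArg _ h1).trans h3

end Groth.Agent.H20Num
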