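import Groth.Agent.H20HM.Main
import Groth.Agent.H20Slice.Comod
import Groth.Agent.H20Slice.Slice

/-!
# Closed orbits in affine schemes from one-parameter subgroups
-/

set_option autoImplicit false
set_option linter.style.haveILetI false

universe u

open TensorProduct HopfRep WithConv Matrix
open Groth.Agent.H20HM

noncomputable section

namespace Groth.Agent.H20Num

variable {k : Type u} [Field k] [IsAlgClosed k] [CharZero k] {A : Type u} [CommRing A] [HopfAlgebra k A]
  [Algebra.FiniteType k A]

/-- For a linear action, a vector with no non-trivial one-parameter limit has a closed orbit and a finite stabiliser. -/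
theorem stableVec_of_no_limit {ι : Type u} [Fintype ι] [Comod k A (MvPolynomial ι k)]
    [GLin.IsCoactAlg k A (MvPolynomial ι k)] (hG : IsLinearlyReductive k A) (hlin : GLin.IsLinear k A ι) (v : ι → k)
    (key : ∀ (lam : A →ₐc[k] LaurentPolynomial k) (p : ι → Polynomial k),
      (∀ i, Polynomial.toLaurent (p i) = GLin.lamOrbit k A lam (GLin.vecPt k ι v) (MvPolynomial.X i)) →
        SGA3t2b.IsTrivialBialgHom lam) :
    GLin.IsClosedOrbit k A (GLin.vecPt k ι v) ∧ H20Comod.Stability.FinStab A (GLin.vecPt k ι v) := by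
  classical
  obtain ⟨e, he, horb⟩ := exists_matrix hlin
  have hfin : GLin.HasFiniteStab k A (GLin.vecPt k ι v) := by
    by_contra hnf
    obtain ⟨lam, p, hnt, hp⟩ := exists_lam_of_not_hasFiniteStab horb he hG hnf
    exact hnt (key lam p hp)
  refine ⟨?_, (H20Comod.Stability.hasFiniteStab_iff _).1 hfin⟩
  obtain ⟨y₀, hy₀, hvy₀⟩ := H20Comod.Stability.exists_isClosedOrbit_inOrbitClosure (A := A) (GLin.vecPt k ι v)
  rw [vecPt_eq y₀] at hy₀ hvy₀
  obtain ⟨lam, p, hp0, hp⟩ := exists_lam_of_inOrbitClosure horb he hG hvy₀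
  have htriv := key lam p hp
  have hpv : (fun i => (p i).coeff 0) = v := funext fun i => by
    rw [← coeff_toLaurent_natCast, hp, GLin.lamOrbit, AlgHom.comp_apply]
    show (lam _).coeff _ = _
    rw [htriv, H20Comod.counit_orbitHom, GLin.vecPt, MvPolynomial.aeval_X]
    show (AddMonoidAlgebra.single 0 (v i) : LaurentPolynomial k).coeff _ = _
    simp
  rw [hpv] at hp0
  obtain ⟨g, hg⟩ := H20Comod.exists_actPt_eq_of_isClosedOrbit hy₀ hp0
  obtain ⟨γ, hγ⟩ := H20Comod.eq_actPt_of_actPt_eq ((H20Comod.actPt_one (A := A) (GLin.vecPt k ι v)).trans hg)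
  refine H20Comod.OrbitPrimes.isClosedOrbit_of_forall _ fun w hw => ?_
  obtain ⟨g', hg'⟩ := H20Comod.exists_actPt_eq_of_isClosedOrbit hy₀ (H20Comod.Stability.inOrbitClosure_trans hp0 hw)
  exact ⟨_, by rw [hg', hγ, H20Comod.actPt_actPt]⟩

/-- A point of an affine scheme with no non-trivial one-parameter limit has a closed orbit and a finite stabiliser. -/
theorem stablePt_of_no_limit {R : Type u} [CommRing R] [Algebra k R] [Algebra.FiniteType k R] [Comod k A R]
    [GLin.IsCoactAlg k A R] (hG : IsLinearlyReductive k A) (x : R →ₐ[k] k)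
    (key : ∀ (lam : A →ₐc[k] LaurentPolynomial k) (h : R →ₐ[k] Polynomial k),
      (∀ r, Polynomial.toLaurent (h r) = GLin.lamOrbit k A lam x r) → SGA3t2b.IsTrivialBialgHom lam) :
    GLin.IsClosedOrbit k A x ∧ H20Comod.Stability.FinStab A x := by
  classical
  obtain ⟨ι, _, c, hc, π, hπ, hπc, hX⟩ := H20Slice.exists_linear_presentation (k := k) (A := A) (R := R)
  letI := c
  haveI := hc
  let vec : ι → k := fun i => x (π (MvPolynomial.X i))
  have hvec : GLin.vecPt k ι vec = x.comp π := MvPolynomial.algHom_ext fun i => by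
    rw [GLin.vecPt, MvPolynomial.aeval_X, AlgHom.comp_apply]
  obtain ⟨hcl, hfs⟩ := stableVec_of_no_limit hG hX vec fun lam p hp => by
    have e : (Polynomial.toLaurentAlg : Polynomial k →ₐ[k] LaurentPolynomial k).comp (MvPolynomial.aeval p) =
        (GLin.lamOrbit k A lam x).comp π := MvPolynomial.algHom_ext fun i => by
      rw [AlgHom.comp_apply, MvPolynomial.aeval_X, Polynomial.toLaurentAlg_apply, hp, AlgHom.comp_apply, GLin.lamOrbit,
        GLin.lamOrbit, AlgHom.comp_apply, AlgHom.comp_apply, hvec, ← H20Slice.orbitHom_comp π hπc x]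
      rfl
    have hmem : ∀ r, GLin.lamOrbit k A lam x r ∈
        (Polynomial.toLaurentAlg : Polynomial k →ₐ[k] LaurentPolynomial k).range := fun r => by
      obtain ⟨F, rfl⟩ := hπ r
      exact ⟨_, AlgHom.congr_fun e F⟩
    let eR := AlgEquiv.ofInjective (Polynomial.toLaurentAlg : Polynomial k →ₐ[k] LaurentPolynomial k)
      Polynomial.toLaurent_injective
    exact key lam (eR.symm.toAlgHom.comp (AlgHom.codRestrict _ _ hmem)) fun r =>
      congrArg Subtype.val (eR.apply_symm_apply ⟨_, hmem r⟩)
  rw [hvec] at hcl hfs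
  refine ⟨H20Comod.OrbitPrimes.isClosedOrbit_of_forall x fun w hw => ?_, hfs.subset fun g hg => ?_⟩
  · obtain ⟨g, hg⟩ := H20Comod.exists_actPt_eq_of_isClosedOrbit hcl (z := w.comp π) fun F hF => by
      refine hw ?_
      show GLin.orbitHom k A x (π F) = 0
      rw [← AlgHom.comp_apply, H20Slice.orbitHom_comp π hπc x]
      exact hF
    rw [← H20Slice.actPt_comp π hπc] at hg
    exact ⟨g, (AlgHom.cancel_right hπ).1 hg⟩
  · show GLin.actPt k g (x.comp π) = x.comp π
    rw [← H20Slice.actPt_comp π hπc, show GLin.actPt k g x = x from hg]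

end Groth.Agent.H20Num
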