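import Groth.Agent.H20Num.Semistable
import Groth.Agent.H20Conj.Factor
import Groth.Agent.H20Prop.SolSet
import Groth.Agent.H20Prop.PsLocus

/-!
# Limits at which `μ` vanishes
-/

set_option autoImplicit false
set_option linter.style.haveILetI false
set_option backward.isDefEq.respectTransparency false

universe u

open CategoryTheory CategoryTheory.Limits MonoidalCategory CartesianMonoidalCategory MonObj AlgebraicGeometry Opposite
open Groth.Agent.H27Witt Groth.Agent.H20SS

noncomputable section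

namespace Groth.Agent.H20Num

open H20Mu

variable {k : Type u} [Field k] [IsAlgClosed k] {G X : Over (Sk k)} [GrpObj G] {a : AlgGrp.Action G X}

/-- A one-parameter subgroup with finitely many values is trivial. -/
theorem eq_one_of_finite_range [IsAffine G.left] (l : Red.Gm (Sk k) ⟶ G) [IsMonHom l]
    (h : (Set.range fun u : 𝟙_ (Over (Sk k)) ⟶ Red.Gm (Sk k) => u ≫ l).Finite) : l = 1 := by
  let φ : kˣ →* (𝟙_ (Over (Sk k)) ⟶ G) :=
    { toFun := fun c => H20Conj.ofParHom c ≫ l
      map_one' := by rw [map_one, MonObj.one_comp]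
      map_mul' := fun c d => by rw [map_mul, MonObj.mul_comp] }
  haveI : Finite φ.range := (h.subset (by rintro _ ⟨c, rfl⟩; exact ⟨_, rfl⟩)).to_subtype
  have htriv : ∀ c, φ c = 1 := fun c => by
    have hM : 0 < Nat.card φ.range := Nat.card_pos
    obtain ⟨d, hd⟩ := IsAlgClosed.exists_pow_nat_eq (c : k) hM
    have hd0 : d ≠ 0 := by rintro rfl; rw [zero_pow hM.ne'] at hd; exact c.ne_zero hd.symm
    have hc : c = Units.mk0 d hd0 ^ Nat.card φ.range := Units.ext (by simpa using hd.symm)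
    rw [hc, map_pow]
    exact congrArg Subtype.val (pow_card_eq_one' (x := (⟨φ (Units.mk0 d hd0), _, rfl⟩ : φ.range)))
  refine Fn.hom_ext (AlgHom.ext fun F => gm_ext fun u => ?_)
  rw [val_pull, val_pull, MonObj.comp_one, ← H20Conj.ofPar_par u]
  exact congrArg (fun z => val z F) (htriv (par u))

/-- A point with finite stabiliser is not moved into a fixed point of a non-trivial one-parameter subgroup. -/
theorem eq_one_of_fixed [IsAffine G.left] (x : 𝟙_ (Over (Sk k)) ⟶ X)
    (hfin : {g : 𝟙_ (Over (Sk k)) ⟶ G | lift g x ≫ a.act = x}.Finite) (g : 𝟙_ (Over (Sk k)) ⟶ G)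
    (l : Red.Gm (Sk k) ⟶ G) [IsMonHom l] (hfix : HMNum.IsFixedBy a l (lift g x ≫ a.act)) : l = 1 := by
  refine eq_one_of_finite_range l ((hfin.image fun ζ => g * ζ * g⁻¹).subset ?_)
  rintro _ ⟨u, rfl⟩
  refine ⟨g⁻¹ * (u ≫ l) * g, ?_, ?_⟩
  · show lift _ x ≫ a.act = x
    have hu : lift (u ≫ l) (lift g x ≫ a.act) ≫ a.act = lift g x ≫ a.act := by
      simpa using hfix _ (𝟙 _) u
    rw [mul_act', mul_act', hu, ← mul_act', inv_mul_cancel, one_act']
  · show g * (g⁻¹ * (u ≫ l) * g) * g⁻¹ = u ≫ l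
    group

variable (B : GLinSh.LinBun G a) [IsProper X.hom]

/-- At a limit where the numerical function vanishes the invariant sections do not vanish. -/
theorem limit_mem (hB : HMNum.AmpleCover B) {n : ℕ} (hn : 0 < n) {f : Fn B.V} (hf : B.IsInvSection n f)
    (x y : 𝟙_ (Over (Sk k)) ⟶ X) (hx : x.left (IsLocalRing.closedPoint k) ∈ GLinSh.nonvanishing B.π f)
    (l : Red.Gm (Sk k) ⟶ G) [IsMonHom l] (hlim : HMNum.IsLimitPt a l x y) (hw : HMNum.HasFibreWeight B l y 0) :
    y.left (IsLocalRing.closedPoint k) ∈ GLinSh.nonvanishing B.π f := by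
  obtain ⟨r, deg, g, F, hdeg, hg, hF, hhom, hsep⟩ := exists_family B l isTorus_gm hB
  obtain ⟨p, hp, hpne⟩ := exists_val_ne_zero B hf.1 x hx
  have hinv : ∀ (t : 𝟙_ (Over (Sk k)) ⟶ Red.Gm (Sk k)) (q : 𝟙_ (Over (Sk k)) ⟶ B.V),
      val (lift (t ≫ l) q ≫ B.lift.act) f = val q f := fun t q => by
    have h := congrArg (val (lift (t ≫ l) q)) (show Fn.pull B.lift.act f = Fn.pull (snd G B.V) f from hf.2)
    rwa [val_pull, val_pull, lift_snd] at h
  obtain ⟨y', w, hlim', hw', j₀, hj₀, hpair, hmin⟩ := exists_limit_weight_supp B l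
    (deg := Fin.cons n deg) (g := Fin.cons 1 g) (F := Fin.cons f F)
    (Fin.cases hn hdeg) (Fin.cases isCharFn_one hg)
    (fun j => Fin.cases (fun t q => by
      show val _ f = val t 1 * val q f
      rw [hinv, map_one, _root_.one_mul]) hF j)
    (Fin.cases (homog_of_hasWeight B hf.1) hhom)
    (fun x' => (hsep x').elim fun j hj => ⟨j.succ, hj⟩) x (𝟙 _)
  simp only [Category.id_comp] at hlim' hw'
  obtain rfl := isLimitPt_unique l x y y' hlim hlim'
  obtain ⟨jy, hjy⟩ := hsep y
  have h1 := (pair_eq_of_fibreWeight B l hg hF hhom (𝟙 _) (by simpa only [Category.id_comp] using hw') hjy).symm.trans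
    (pair_eq_of_fibreWeight B l hg hF hhom (𝟙 _) (by simpa only [Category.id_comp] using hw) hjy :
      pair (g jy) (𝟙 _) = (deg jy : ℤ) * 0)
  obtain rfl := mul_left_cancel₀ (by have := hdeg jy; omega) h1
  obtain ⟨q, hq, hqne⟩ := (hmin 0 ⟨p, hp, hpne⟩).2 (by
    rw [hpair]
    simp [pair_one])
  exact mem_nonvanishing B hq hqne

/-- A limit lying in an open with closed orbits lies in the orbit. -/
theorem exists_translate_of_closedOrbitsOn [LocallyOfFiniteType G.hom] [QuasiCompact G.hom] {W : X.left.Opens}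
    (hW : GLinSh.ClosedOrbitsOn a W) (x y : 𝟙_ (Over (Sk k)) ⟶ X) (hx : x.left (IsLocalRing.closedPoint k) ∈ W)
    (hy : y.left (IsLocalRing.closedPoint k) ∈ W) (l : Red.Gm (Sk k) ⟶ G) [IsMonHom l]
    (hlim : HMNum.IsLimitPt a l x y) : ∃ g : 𝟙_ (Over (Sk k)) ⟶ G, lift g x ≫ a.act = y := by
  obtain ⟨φ, hlim', horb⟩ := exists_line_extension a l x
  obtain rfl := isLimitPt_unique l x _ y hlim' hlim
  let T : Over (Sk k) := 𝟙_ (Over (Sk k))
  obtain ⟨C, hC, hCeq⟩ := isClosed_induced_iff.1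
    (hW k T (Iso.refl _) x (by
      rintro _ ⟨t, rfl⟩
      rw [Subsingleton.elim (α := PrimeSpectrum k) t (IsLocalRing.closedPoint k)]
      exact hx))
  let Φ : Pl k ⟶ X ⊗ T := lift φ (toUnit _)
  have horb' : ∀ c : kˣ, Φ.left ((plPt (c : k)).left (IsLocalRing.closedPoint k)) ∈ C ∨
      φ.left ((plPt (c : k)).left (IsLocalRing.closedPoint k)) ∉ W := by
    intro c
    refine or_iff_not_imp_right.2 fun hcW => ?_
    rw [not_not] at hcW
    have e : plPt (c : k) ≫ Φ = lift (ofPar c ≫ l) (𝟙 T) ≫ GIT.psi a x := by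
      apply CartesianMonoidalCategory.hom_ext
      · simp only [Φ, GIT.psi, Category.assoc, lift_fst, lift_whiskerLeft_assoc, Category.id_comp]
        rw [show (𝟙 T ≫ x : T ⟶ X) = x from Category.id_comp x, ← horb (ofPar c), par_ofPar]
      · exact toUnit_unique _ _
    have hmem : (⟨(plPt (c : k) ≫ Φ).left (IsLocalRing.closedPoint k), by
        show ((plPt (c : k) ≫ Φ) ≫ fst X T).left (IsLocalRing.closedPoint k) ∈ W
        rw [Category.assoc, lift_fst]
        exact hcW⟩ : (fst X T).left ⁻¹ᵁ W) ∈ (fun p : (fst X T).left ⁻¹ᵁ W => (p : (X ⊗ T).left)) ⁻¹' C := by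
      rw [hCeq, Set.mem_preimage]
      exact ⟨(lift (ofPar c ≫ l) (𝟙 T)).left (IsLocalRing.closedPoint k),
        congrArg (fun m : T ⟶ X ⊗ T => m.left (IsLocalRing.closedPoint k)) e.symm⟩
    exact hmem
  -- the closed set contains the origin
  have h0 : Φ.left ((plPt (0 : k)).left (IsLocalRing.closedPoint k)) ∈ C := by
    by_contra hnot
    let O : (Pl k).left.Opens := ⟨(Φ.left ⁻¹' C)ᶜ ∩ φ.left ⁻¹' W,
      ((hC.preimage Φ.left.continuous).isOpen_compl).inter (W.2.preimage φ.left.continuous)⟩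
    haveI : IsAffine (Pl k).left := inferInstanceAs (IsAffine (Spec _))
    obtain ⟨P, hPO, hP0⟩ := (isAffineOpen_top (Pl k).left).exists_basicOpen_le
      (V := O) ⟨(plPt (0 : k)).left (IsLocalRing.closedPoint k), hnot, hy⟩ trivial
    obtain ⟨P₀, rfl⟩ : ∃ P₀ : Polynomial k, (plEquiv P₀ : Fn (Pl k)) = P :=
      ⟨_, (plEquiv (k := k)).apply_symm_apply P⟩
    have hP₀ : P₀.eval 0 ≠ 0 := by rw [← val_plPt]; exact (mem_basicOpen_iff _ _).mp hP0
    obtain ⟨c, hc⟩ : ∃ c, (Polynomial.X * P₀).eval c ≠ 0 := by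
      by_contra hcon
      push Not at hcon
      refine mul_ne_zero Polynomial.X_ne_zero (fun h => hP₀ (by simp [h]))
        (Polynomial.eq_zero_of_infinite_isRoot _ (Set.infinite_univ.mono fun c _ => hcon c))
    rw [Polynomial.eval_mul, Polynomial.eval_X, mul_ne_zero_iff] at hc
    have hmemO := hPO ((mem_basicOpen_iff (plPt c) (plEquiv P₀)).2 (by rw [val_plPt]; exact hc.2))
    rcases horb' (Units.mk0 c hc.1) with h | h
    · exact hmemO.1 h
    · exact h hmemO.2
  have hmem : (⟨(plPt (0 : k) ≫ Φ).left (IsLocalRing.closedPoint k), by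
      show ((plPt (0 : k) ≫ Φ) ≫ fst X T).left (IsLocalRing.closedPoint k) ∈ W
      rw [Category.assoc, lift_fst]
      exact hy⟩ : (fst X T).left ⁻¹ᵁ W) ∈
      (fun p : (fst X T).left ⁻¹ᵁ W => (p : (X ⊗ T).left)) ⁻¹' Set.range (GIT.psi a x).left.base := by
    rw [← hCeq]
    exact h0
  obtain ⟨z, hz⟩ := hmem
  -- a rational point of the fibre over the limit
  let bb : T ⟶ X ⊗ T := plPt (0 : k) ≫ Φ
  let Q := pullback (GIT.psi a x).left bb.left
  let πQ : Q ⟶ T.left := pullback.snd (GIT.psi a x).left bb.left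
  haveI : LocallyOfFiniteType (snd G T).left := inferInstanceAs (LocallyOfFiniteType (pullback.snd G.hom T.hom))
  haveI : LocallyOfFiniteType ((GIT.psi a x).left ≫ (snd X T).left) := by
    rw [← Over.comp_left, H20GIT.psi_snd]
    infer_instance
  haveI : LocallyOfFiniteType (GIT.psi a x).left := locallyOfFiniteType_of_comp _ (snd X T).left
  obtain ⟨q, -, -⟩ := Scheme.Pullback.exists_preimage_pullback (f := (GIT.psi a x).left) (g := bb.left) z
    (IsLocalRing.closedPoint k) hz
  let Qo : Over (Sk k) := Over.mk (πQ ≫ T.hom)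
  let p₁ : Qo ⟶ G ⊗ T := Over.homMk (pullback.fst _ _) (by
    show _ = πQ ≫ T.hom
    rw [← Over.w (GIT.psi a x), pullback.condition_assoc, Over.w bb])
  haveI : LocallyOfFiniteType πQ := MorphismProperty.pullback_snd (P := @LocallyOfFiniteType) _ _ inferInstance
  haveI : LocallyOfFiniteType T.hom := inferInstanceAs (LocallyOfFiniteType (𝟙 (Sk k)))
  haveI : LocallyOfFiniteType Qo.hom := locallyOfFiniteType_comp πQ T.hom
  haveI : LocallyOfFiniteType (toUnit Qo).left := by
    rw [show (toUnit Qo).left = Qo.hom from (Category.comp_id _).symm.trans (Over.w (toUnit Qo))]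
    infer_instance
  obtain ⟨s, -⟩ := H20Prop.exists_lift_point (T := T) (Iso.refl _) (toUnit Qo)
    (fun t => ⟨q, Subsingleton.elim (α := PrimeSpectrum k) _ _⟩) (𝟙 T)
  have hs : (s ≫ p₁) ≫ GIT.psi a x = bb := by
    have e : (s ≫ p₁) ≫ GIT.psi a x = (Over.homMk (U := T) (V := T) (s.left ≫ πQ) (Over.w s)) ≫ bb := by
      apply Over.OverMorphism.ext
      show (s.left ≫ pullback.fst _ _) ≫ (GIT.psi a x).left = (s.left ≫ πQ) ≫ bb.left
      rw [Category.assoc, Category.assoc, pullback.condition]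
    rw [e, show (Over.homMk (U := T) (V := T) (s.left ≫ πQ) (Over.w s)) = 𝟙 T from toUnit_unique _ _, Category.id_comp]
  refine ⟨s ≫ p₁ ≫ fst G T, ?_⟩
  have h3 := congrArg (· ≫ fst X T) hs
  simp only [GIT.psi, bb, Φ, Category.assoc, lift_fst] at h3
  rw [← h3]
  rw [← Category.assoc s p₁]
  have e4 : s ≫ p₁ = lift ((s ≫ p₁) ≫ fst G T) (𝟙 T) := by
    apply CartesianMonoidalCategory.hom_ext
    · rw [lift_fst]
    · exact toUnit_unique _ _
  conv_rhs => rw [← Category.assoc, e4, lift_whiskerLeft_assoc, Category.id_comp]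

end Groth.Agent.H20Num
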