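import Groth.Agent.H20Mu.TorusFn
import Groth.Agent.H20Mu.ProdFn
import Groth.Agent.H20HM.Corep
import Groth.Agent.H20HM.Setup
import Groth.Agent.H20LRQ.Bridge
import Groth.Agent.H20Red.Iso

/-!
# The Hopf algebra of an affine group and its rational points
-/

set_option autoImplicit false
set_option linter.style.haveILetI false
set_option backward.isDefEq.respectTransparency false

universe u

open CategoryTheory CategoryTheory.Limits MonoidalCategory CartesianMonoidalCategory MonObj AlgebraicGeometry Opposite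
open TensorProduct WithConv
open Groth.Agent.H27Witt Groth.Agent.H20HM

noncomputable section

namespace Groth.Agent.H20Num

open H20Mu

variable {k : Type u} [Field k] {G : Over (Sk k)} [GrpObj G] {A : Type u} [CommRing A] [HopfAlgebra k A]
  (v : G ≅ CoactBr.sp k A)

/-- The model ring as the ring of functions. -/
def fnEquiv : A ≃ₐ[k] Fn G :=
  (Fn.specAlg (k := k) A).trans (AlgEquiv.ofAlgHom (Fn.pull v.hom) (Fn.pull v.inv)
    ((Fn.pull_comp v.hom v.inv).symm.trans (by rw [v.hom_inv_id, Fn.pull_id]))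
    ((Fn.pull_comp v.inv v.hom).symm.trans (by rw [v.inv_hom_id, Fn.pull_id]; rfl)))

/-- The algebra point of a rational point of the group. -/
def ptQ (g : 𝟙_ (Over (Sk k)) ⟶ G) : WithConv (A →ₐ[k] k) := toConv ((val g).comp (fnEquiv v).toAlgHom)

theorem ptQ_apply (g : 𝟙_ (Over (Sk k)) ⟶ G) (x : A) : (ptQ v g).ofConv x = val g (fnEquiv v x) := rfl

variable (A) in
theorem val_comul (g h : 𝟙_ (Over (Sk k)) ⟶ CoactBr.sp k A) (x : A) :
    val (g * h) (Fn.specAlg (k := k) A x) =
      (toConv ((val g).comp (Fn.specAlg (k := k) A).toAlgHom) *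
        toConv ((val h).comp (Fn.specAlg (k := k) A).toAlgHom) : WithConv (A →ₐ[k] k)).ofConv x := by
  let D : Over (Sk k) := CoactBr.sp k A
  let w : (D ⊗ D).left ⟶ Spec (CommRingCat.of (A ⊗[k] A)) := (pullbackSpecIso k A A).hom
  let L : A ⊗[k] A →+* Γ((D ⊗ D).left, ⊤) :=
    w.appTop.hom.comp (Scheme.ΓSpecIso (CommRingCat.of (A ⊗[k] A))).inv.hom
  have key : ∀ (f : A →+* A ⊗[k] A) (p : (D ⊗ D).left ⟶ Spec (CommRingCat.of A)),
      p = w ≫ Spec.map (CommRingCat.ofHom f) → ∀ s,
        p.appTop ((Scheme.ΓSpecIso (CommRingCat.of A)).inv s) = L (f s) := by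
    rintro f p rfl s
    rw [Scheme.Hom.comp_appTop]
    exact congrArg w.appTop congr($(Scheme.ΓSpecIso_inv_naturality (CommRingCat.ofHom f)).hom s).symm
  have hl : ∀ s, (Fn.pull (fst D D) (Fn.specAlg (k := k) A s) : Γ((D ⊗ D).left, ⊤)) = L (s ⊗ₜ 1) :=
    key (Algebra.TensorProduct.includeLeftRingHom : A →+* A ⊗[k] A) (fst D D).left (pullbackSpecIso_hom_fst k A A).symm
  have hr : ∀ s, (Fn.pull (snd D D) (Fn.specAlg (k := k) A s) : Γ((D ⊗ D).left, ⊤)) = L (1 ⊗ₜ s) :=
    key (Algebra.TensorProduct.includeRight : A →ₐ[k] A ⊗[k] A).toRingHom (snd D D).left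
      (pullbackSpecIso_hom_snd k A A).symm
  have hm : (Fn.pull μ[D] (Fn.specAlg (k := k) A x) : Γ((D ⊗ D).left, ⊤)) = L (CoalgebraStruct.comul (R := k) x) :=
    key (Bialgebra.comulAlgHom k A : A →+* A ⊗[k] A) (μ[D]).left mul_spec_asOver_spec_left x
  have hev : ∀ z : A ⊗[k] A, val (lift g h) (L z : Fn (D ⊗ D)) = Algebra.TensorProduct.lift
      ((val g).comp (Fn.specAlg (k := k) A).toAlgHom) ((val h).comp (Fn.specAlg (k := k) A).toAlgHom)
      (fun _ _ => .all _ _) z := by
    intro z
    induction z using TensorProduct.induction_on with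
    | zero =>
      rw [map_zero L, map_zero (Algebra.TensorProduct.lift _ _ _)]
      exact map_zero (val (X := D ⊗ D) (lift g h))
    | tmul a b =>
      rw [Algebra.TensorProduct.lift_tmul, show a ⊗ₜ[k] b = (a ⊗ₜ[k] (1 : A)) * ((1 : A) ⊗ₜ[k] b) by simp, map_mul,
        ← hl, ← hr]
      refine (map_mul (val (X := D ⊗ D) (lift g h)) _ _).trans (congrArg₂ (· * ·) ?_ ?_)
      · exact (val_pull _ _ _).trans (by rw [lift_fst]; rfl)
      · exact (val_pull _ _ _).trans (by rw [lift_snd]; rfl)
    | add z z' hz hz' =>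
      rw [map_add L, map_add (Algebra.TensorProduct.lift _ _ _)]
      exact (map_add (val (X := D ⊗ D) (lift g h)) _ _).trans (congrArg₂ (· + ·) hz hz')
  rw [Hom.mul_def, ← val_pull]
  refine (congrArg (val (lift g h)) hm).trans ((hev _).trans ?_)
  exact (AlgHom.convMul_apply _ _ _).symm

variable [IsMonHom v.hom]

theorem ptQ_mul (g h : 𝟙_ (Over (Sk k)) ⟶ G) : ptQ v (g * h) = ptQ v g * ptQ v h := by
  refine WithConv.ofConv_injective (AlgHom.ext fun x => ?_)
  refine ((val_pull (g * h) v.hom (Fn.specAlg (k := k) A x)).trans ?_)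
  rw [MonObj.mul_comp]
  exact val_comul A _ _ x

theorem ptQ_one : ptQ v (1 : 𝟙_ (Over (Sk k)) ⟶ G) = 1 := by
  have h := ptQ_mul v 1 1
  rw [_root_.one_mul] at h
  have h2 := congrArg (fun z => cinv (ptQ v (1 : 𝟙_ (Over (Sk k)) ⟶ G)) * z) h
  simp only [← _root_.mul_assoc, cinv_mul, _root_.one_mul] at h2
  exact h2.symm

theorem ptQ_inv (g : 𝟙_ (Over (Sk k)) ⟶ G) : ptQ v g⁻¹ = cinv (ptQ v g) :=
  eq_cinv_of_mul_eq_one (by rw [← ptQ_mul, inv_mul_cancel, ptQ_one])

omit [IsMonHom v.hom] in
theorem ptQ_surjective [IsAffine G.left] (q : WithConv (A →ₐ[k] k)) : ∃ g, ptQ v g = q := by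
  obtain ⟨g, hg⟩ := Fn.exists_point (X := G) (q.ofConv.comp (fnEquiv v).symm.toAlgHom)
  refine ⟨g, WithConv.ofConv_injective (AlgHom.ext fun x => ?_)⟩
  rw [ptQ_apply]
  show Fn.ev g _ = _
  rw [hg]
  simp

omit [IsMonHom v.hom] in
theorem ptQ_injective [IsAffine G.left] : Function.Injective (ptQ (A := A) v) := fun g h e => by
  refine Fn.point_ext (X := G) (AlgHom.ext fun F => ?_)
  obtain ⟨x, rfl⟩ := (fnEquiv v).surjective F
  exact congrArg (fun q : WithConv (A →ₐ[k] k) => q.ofConv x) e

include v in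
omit [IsMonHom v.hom] in
theorem finiteType_model [IsAffine G.left] [LocallyOfFiniteType G.hom] : Algebra.FiniteType k A :=
  haveI : Algebra.FiniteType k (Fn G) := Fn.finiteType (k := k) G
  Algebra.FiniteType.of_surjective (fnEquiv v).symm.toAlgHom (fnEquiv v).symm.surjective

/-- A tensor with vanishing slices at all points is zero. -/
theorem tensor_eq_zero_of_forall_pt [IsAlgClosed k] [CharZero k] [Algebra.FiniteType k A] {M : Type u}
    [AddCommGroup M] [Module k M] (z : M ⊗[k] A)
    (h : ∀ q : WithConv (A →ₐ[k] k), TensorProduct.rid k M (q.ofConv.toLinearMap.lTensor M z) = 0) : z = 0 := by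
  classical
  let b := Module.Free.chooseBasis k M
  let e := TensorProduct.equivFinsuppOfBasisLeft b (N := A)
  have key : ∀ (q : WithConv (A →ₐ[k] k)) (y : M ⊗[k] A) m,
      b.repr (TensorProduct.rid k M (q.ofConv.toLinearMap.lTensor M y)) m = q.ofConv (e y m) := by
    intro q y m
    induction y using TensorProduct.induction_on with
    | zero => simp
    | tmul x c => simp [e, mul_comm]
    | add y y' hy hy' => simp only [map_add, Finsupp.add_apply, hy, hy']
  refine e.injective (Finsupp.ext fun m => ?_)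
  rw [map_zero]
  refine eq_of_forall_pt (k := k) fun q => ?_
  rw [← key, h, map_zero]
  simp

/-- A function on `G × V` with vanishing slices at all points of `G` is zero. -/
theorem eq_zero_of_slices [IsAlgClosed k] [IsAffine G.left] [Smooth G.hom] {V : Over (Sk k)} [CompactSpace V.left]
    [QuasiSeparatedSpace V.left] (F : Fn (G ⊗ V))
    (h : ∀ g : 𝟙_ (Over (Sk k)) ⟶ G, Fn.pull (lift (toUnit V ≫ g) (𝟙 V)) F = 0) : F = 0 := by
  classical
  obtain ⟨n, a, b, rfl⟩ := exists_decomp_qcqs F
  let β := Module.Free.chooseBasis k (Fn V)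
  let S := Finset.univ.biUnion fun i => (β.repr (b i)).support
  have hb : ∀ i, b i = ∑ m ∈ S, β.repr (b i) m • β m := fun i => by
    conv_lhs => rw [← β.linearCombination_repr (b i), Finsupp.linearCombination_apply, Finsupp.sum]
    exact Finset.sum_subset (fun m hm => Finset.mem_biUnion.2 ⟨i, Finset.mem_univ _, hm⟩)
      fun m _ hm => by rw [Finsupp.notMem_support_iff.1 hm, zero_smul]
  have hc : ∀ m, (∑ i, β.repr (b i) m • a i) = 0 := by
    intro m
    refine Fn.ext_points (X := G) fun g => ?_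
    have e1 : ∀ x, Fn.pull (lift (toUnit V ≫ g) (𝟙 V)) (Fn.pull (fst G V) x) = algebraMap k (Fn V) (val g x) :=
      fun x => by
        rw [Fn.pull_pull, lift_fst, Fn.pull_comp, AlgHom.comp_apply]
        refine ((Fn.pull (toUnit V)).congr_arg ?_).trans ((Fn.pull (toUnit V)).commutes (val g x))
        exact (struct_gamma _).symm
    have h1 := congrArg (fun y => β.repr y m) (h g)
    simp only [map_sum, map_mul, e1, Fn.pull_pull, lift_snd, Fn.pull_id, AlgHom.id_apply, ← Algebra.smul_def,
      map_smul, Finsupp.coe_finset_sum, Finset.sum_apply, Finsupp.smul_apply, smul_eq_mul, map_zero,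
      Finsupp.zero_apply] at h1
    show val g _ = val g 0
    rw [map_zero, map_sum, ← h1]
    exact Finset.sum_congr rfl fun i _ => by rw [map_smul, smul_eq_mul, mul_comm]
  calc _ = ∑ i, ∑ m ∈ S, Fn.pull (fst G V) (β.repr (b i) m • a i) * Fn.pull (snd G V) (β m) := by
        refine Finset.sum_congr rfl fun i _ => ?_
        conv_lhs => rw [hb i, map_sum, Finset.mul_sum]
        exact Finset.sum_congr rfl fun m _ => by rw [map_smul, map_smul, mul_smul_comm, smul_mul_assoc]
    _ = 0 := by
        rw [Finset.sum_comm]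
        exact Finset.sum_eq_zero fun m _ => by rw [← Finset.sum_mul, ← map_sum, hc, map_zero, zero_mul]

end Groth.Agent.H20Num
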