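import Groth.Agent.H20Num.Rep
import Groth.Agent.H20HM.OneParam
import Groth.Agent.H20Conj.CommTorus
import Groth.Agent.H20Conj.Cochar
import Groth.Agent.H20Slice.Comod

/-!
# Linear actions from matrices, and one-parameter subgroups from bialgebra maps
-/

set_option autoImplicit false
set_option linter.style.haveILetI false
set_option backward.isDefEq.respectTransparency false

universe u

open CategoryTheory CategoryTheory.Limits MonoidalCategory CartesianMonoidalCategory MonObj AlgebraicGeometry Opposite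
open TensorProduct WithConv
open Groth.Agent.H27Witt Groth.Agent.H20HM

noncomputable section

namespace Groth.Agent.H20Num

open H20Mu

variable {k : Type u} [Field k]

/-- A Laurent polynomial as a function on `G_m`, the variable being the inverse of the coordinate. -/
def toFn : LaurentPolynomial k →ₐ[k] Fn (Red.Gm (Sk k)) :=
  AddMonoidAlgebra.lift k (Fn (Red.Gm (Sk k))) ℤ
    { toFun := fun n => ((zFn ^ (-(Multiplicative.toAdd n)) : (Fn (Red.Gm (Sk k)))ˣ) : Fn (Red.Gm (Sk k)))
      map_one' := by simp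
      map_mul' := fun m n => by
        rw [toAdd_mul, neg_add, zpow_add, Units.val_mul] }

theorem val_toFn (u : 𝟙_ (Over (Sk k)) ⟶ Red.Gm (Sk k)) (P : LaurentPolynomial k) :
    val u (toFn P) = evT (par u)⁻¹ P := by
  induction P using AddMonoidAlgebra.induction_linear with
  | zero => simp
  | add P Q hP hQ => simp only [map_add, hP, hQ]
  | single j c =>
    rw [evT_single, toFn, AddMonoidAlgebra.lift_single, map_smul, smul_eq_mul]
    refine congrArg (c * ·) ?_
    show val u ((zFn ^ (-j) : (Fn (Red.Gm (Sk k)))ˣ) : Fn (Red.Gm (Sk k))) = _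
    rw [val_zFn_zpow, _root_.zpow_neg, ← _root_.inv_zpow, Units.val_zpow_eq_zpow_val]

variable [Infinite k] {G : Over (Sk k)} [GrpObj G] [IsAffine G.left] {A : Type u} [CommRing A] [HopfAlgebra k A]
  (v : G ≅ CoactBr.sp k A) [IsMonHom v.hom]

/-- The one-parameter subgroup of a bialgebra map. -/
theorem exists_onePS (lam : A →ₐc[k] LaurentPolynomial k) :
    ∃ l : Red.Gm (Sk k) ⟶ G, IsMonHom l ∧ ∀ u : 𝟙_ (Over (Sk k)) ⟶ Red.Gm (Sk k),
      ptQ v (u ≫ l)⁻¹ = toConv ((evT (par u)).comp (lam : A →ₐ[k] LaurentPolynomial k)) := by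
  obtain ⟨l, hl⟩ := Fn.exists_hom (X := Red.Gm (Sk k)) (Y := G)
    (toFn.comp ((lam : A →ₐ[k] LaurentPolynomial k).comp (fnEquiv v).symm.toAlgHom))
  have hpt : ∀ u : 𝟙_ (Over (Sk k)) ⟶ Red.Gm (Sk k),
      ptQ v (u ≫ l) = toConv ((evT (par u)⁻¹).comp (lam : A →ₐ[k] LaurentPolynomial k)) := fun u => by
    refine WithConv.ofConv_injective (AlgHom.ext fun x => ?_)
    rw [ptQ_apply, ← val_pull, hl]
    simp [val_toFn]
  have hmul : ∀ s t : 𝟙_ (Over (Sk k)) ⟶ Red.Gm (Sk k), (s * t) ≫ l = (s ≫ l) * (t ≫ l) := fun s t => by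
    refine ptQ_injective v ?_
    rw [ptQ_mul, hpt, hpt, hpt, par_mul, _root_.mul_inv]
    have h := AlgHom.convMul_comp_bialgHom_distrib (toConv (evT (par s)⁻¹)) (toConv (evT (par t)⁻¹)) lam
    rw [evT_mul_evT] at h
    exact WithConv.ofConv_injective h
  have hl' : IsMonHom l := H20Conj.hom_of_mul l fun {P} p q => by
    have key : μ[Red.Gm (Sk k)] ≫ l = (fst _ _ ≫ l) * (snd _ _ ≫ l) := by
      refine Fn.hom_ext (AlgHom.ext fun F => H20Conj.gm2_ext fun s t => ?_)
      rw [val_pull, val_pull, MonObj.comp_mul, lift_fst_assoc, lift_snd_assoc, ← hmul, Hom.mul_def, Category.assoc]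
    rw [Hom.mul_def, Category.assoc, key, MonObj.comp_mul, lift_fst_assoc, lift_snd_assoc]
  refine ⟨l, hl', fun u => ?_⟩
  let q : kˣ → WithConv (A →ₐ[k] k) := fun t => toConv ((evT t).comp (lam : A →ₐ[k] LaurentPolynomial k))
  have hq : ∀ t s, q t * q s = q (t * s) := fun t s => by
    have h := AlgHom.convMul_comp_bialgHom_distrib (toConv (evT t)) (toConv (evT s)) lam
    rw [evT_mul_evT] at h
    exact (WithConv.ofConv_injective h).symm
  have hq1 : q 1 = 1 := by
    have h := congrArg (cinv (q 1) * ·) (hq 1 1)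
    simp only [← _root_.mul_assoc, cinv_mul, _root_.one_mul] at h
    exact h
  rw [ptQ_inv, hpt]
  show cinv (q (par u)⁻¹) = q (par u)
  exact (eq_cinv_of_mul_eq_one (by rw [hq, mul_inv_cancel, hq1])).symm

/-- A matrix corepresentation gives a linear action on affine space. -/
theorem exists_linear {κ : Type u} [Fintype κ] [DecidableEq κ] {e : Matrix κ κ A} (he : IsCorep k e) :
    ∃ (c : HopfRep.Comod k A (MvPolynomial κ k)) (_ : @GLin.IsCoactAlg k _ A _ _ (MvPolynomial κ k) _ _ c),
      @GLin.IsLinear k _ A _ _ κ _ c ∧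
      ∀ i, c.coact (MvPolynomial.X i) = ∑ j, MvPolynomial.X j ⊗ₜ[k] e j i := by
  classical
  let Φ : MvPolynomial κ k →ₐ[k] MvPolynomial κ k ⊗[k] A :=
    MvPolynomial.aeval fun i => ∑ j, MvPolynomial.X j ⊗ₜ[k] e j i
  have hX : ∀ i, Φ (MvPolynomial.X i) = ∑ j, MvPolynomial.X j ⊗ₜ[k] e j i := fun i => MvPolynomial.aeval_X _ i
  obtain ⟨c, hc, hcc⟩ := H20Slice.exists_comod_of_algHom Φ (Set.range (MvPolynomial.X (R := k) (σ := κ)))
    MvPolynomial.adjoin_range_X
    (by
      rintro _ ⟨j, rfl⟩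
      simp only [hX, map_sum, LinearMap.rTensor_tmul, AlgHom.toLinearMap_apply, LinearMap.lTensor_tmul, he.comul,
        TensorProduct.sum_tmul, TensorProduct.tmul_sum, TensorProduct.assoc_tmul]
      exact Finset.sum_comm)
    (by
      rintro _ ⟨j, rfl⟩
      simp [hX, he.counit, Matrix.one_apply, TensorProduct.tmul_ite, Finset.sum_ite_eq'])
  refine ⟨c, hc, fun i => ⟨fun j => e j i, ?_⟩, fun i => ?_⟩
  · show c.coact _ = _
    rw [hcc]; exact hX i
  · rw [hcc]; exact hX i

end Groth.Agent.H20Num
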