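import Groth.Agent.H20SS.Stable
import Groth.Agent.H20GQ.Orbit
import Groth.Agent.H20Mu.Values
import Groth.Agent.H20LRQ.Orbit
import Mathlib.AlgebraicGeometry.AlgClosed.Basic
import Mathlib.AlgebraicGeometry.Noetherian

/-!
# Closed orbits from the fibres of an invariant morphism on rational points
-/

set_option autoImplicit false
set_option linter.style.haveILetI false
set_option backward.isDefEq.respectTransparency false

universe u

open CategoryTheory CategoryTheory.Limits MonoidalCategory CartesianMonoidalCategory MonObj AlgebraicGeometry Opposite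
  TopologicalSpace
open Groth.Agent.H27Witt

noncomputable section

namespace Groth.Agent.H20Num

/-- A closed action on an open subscheme gives closed orbits in the open. -/
theorem closedOrbitsOn_of_isClosedAction {S : Scheme.{u}} {G X : Over S} [GrpObj G] {a : AlgGrp.Action G X}
    {W : X.left.Opens} {P : Over S} (i : P ⟶ X) [IsOpenImmersion i.left] (hi : Set.range i.left = W)
    (aP : AlgGrp.Action G P) (haP : aP.act ≫ i = (G ◁ i) ≫ a.act) (h : GIT.IsClosedAction aP) :
    GLinSh.ClosedOrbitsOn a W := by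
  intro Ω _ _ T e f hf
  haveI : IsOpenImmersion (i ▷ T).left :=
    MorphismProperty.of_isPullback (P := @IsOpenImmersion) (H20GQ.isPullback_whiskerRight i T) inferInstance
  have hr : Set.range f.left ⊆ Set.range i.left := hi.symm ▸ hf
  let f' : T ⟶ P := Over.homMk (IsOpenImmersion.lift i.left f.left hr) (by
    show _ ≫ P.hom = _
    rw [← Over.w i, IsOpenImmersion.lift_fac_assoc, Over.w f])
  have hf' : f' ≫ i = f := Over.OverMorphism.ext (IsOpenImmersion.lift_fac _ _ _)
  have hcl := h Ω T e f'
  have hsq : GIT.psi aP f' ≫ (i ▷ T) = GIT.psi a f := by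
    apply CartesianMonoidalCategory.hom_ext
    · simp only [GIT.psi, Category.assoc, whiskerRight_fst, lift_fst, lift_fst_assoc]
      rw [haP, ← whiskerLeft_comp_assoc, hf']
    · simp [GIT.psi]
  have hW : Set.range (i ▷ T).left = ((fst X T).left ⁻¹ᵁ W : Set (X ⊗ T).left) := by
    refine Set.Subset.antisymm ?_ fun z hz => ?_
    · rintro _ ⟨w, rfl⟩
      show ((i ▷ T).left ≫ (fst X T).left) w ∈ W
      rw [← Over.comp_left, whiskerRight_fst, Over.comp_left]
      exact hi.le ⟨_, rfl⟩
    · obtain ⟨p, hp⟩ := hi.ge (show (fst X T).left z ∈ (W : Set X.left) from hz)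
      obtain ⟨w, -, hw⟩ := Scheme.exists_preimage_of_isPullback (H20GQ.isPullback_whiskerRight i T) p z hp
      exact ⟨w, hw⟩
  rw [← isOpen_compl_iff, isOpen_induced_iff]
  refine ⟨(i ▷ T).left '' (Set.range (GIT.psi aP f').left)ᶜ,
    (i ▷ T).left.isOpenEmbedding.isOpenMap _ hcl.isOpen_compl, ?_⟩
  ext z
  obtain ⟨w, hw⟩ := hW.ge z.2
  show z.1 ∈ (i ▷ T).left '' (Set.range (GIT.psi aP f').left)ᶜ ↔ z.1 ∉ Set.range (GIT.psi a f).left
  rw [← hw, Function.Injective.mem_set_image (i ▷ T).left.isOpenEmbedding.injective, Set.mem_compl_iff, not_iff_not, ← hsq]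
  constructor
  · rintro ⟨t, rfl⟩
    exact ⟨t, rfl⟩
  · rintro ⟨t, ht⟩
    exact ⟨t, (i ▷ T).left.isOpenEmbedding.injective ht⟩

variable {k : Type u} [Field k] [IsAlgClosed k] {G P Y : Over (Sk k)} [GrpObj G] {aP : AlgGrp.Action G P} {φ : P ⟶ Y}

/-- The pair map is surjective when the rational fibres are orbits. -/
theorem surjective_psiY_of_points [LocallyOfFiniteType G.hom] [QuasiCompact G.hom] [LocallyOfFiniteType P.hom]
    [QuasiCompact P.hom] (hi : GIT.IsInvariant aP φ)
    (h : ∀ y₁ y₂ : 𝟙_ (Over (Sk k)) ⟶ P, y₁ ≫ φ = y₂ ≫ φ →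
      ∃ g : 𝟙_ (Over (Sk k)) ⟶ G, lift g y₂ ≫ aP.act = y₁) :
    Function.Surjective (GIT.PsiY aP φ hi).base := by
  haveI : LocallyOfFiniteType φ.left := by
    haveI : LocallyOfFiniteType (φ.left ≫ Y.hom) := (Over.w φ).symm ▸ ‹LocallyOfFiniteType P.hom›
    exact locallyOfFiniteType_of_comp _ Y.hom
  haveI : LocallyOfFiniteType (G ⊗ P).hom := inferInstanceAs (LocallyOfFiniteType (pullback.fst G.hom P.hom ≫ G.hom))
  haveI : QuasiCompact (G ⊗ P).hom := inferInstanceAs (QuasiCompact (pullback.fst G.hom P.hom ≫ G.hom))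
  haveI : CompactSpace (G ⊗ P).left := QuasiCompact.compactSpace_of_compactSpace (G ⊗ P).hom
  haveI : IsLocallyNoetherian (G ⊗ P).left := LocallyOfFiniteType.isLocallyNoetherian (G ⊗ P).hom
  haveI : IsNoetherian (G ⊗ P).left := {}
  let q : pullback φ.left φ.left ⟶ Spec (CommRingCat.of k) := pullback.fst φ.left φ.left ≫ P.hom
  haveI : LocallyOfFiniteType q := inferInstanceAs (LocallyOfFiniteType (pullback.fst φ.left φ.left ≫ P.hom))
  haveI : JacobsonSpace ↥(pullback φ.left φ.left) := LocallyOfFiniteType.jacobsonSpace q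
  refine surjective_of_closed_points (GIT.PsiY aP φ hi).continuous fun z hz => ?_
  let ζ := pointOfClosedPoint q z hz
  have hq : pullback.snd φ.left φ.left ≫ P.hom = q := by
    show _ = pullback.fst φ.left φ.left ≫ P.hom
    rw [← Over.w φ, ← pullback.condition_assoc]
  let y₁ : 𝟙_ (Over (Sk k)) ⟶ P := Over.homMk (ζ ≫ pullback.fst φ.left φ.left) (by
    rw [Category.assoc]
    exact pointOfClosedPoint_comp q z hz)
  let y₂ : 𝟙_ (Over (Sk k)) ⟶ P := Over.homMk (ζ ≫ pullback.snd φ.left φ.left) (by
    rw [Category.assoc, hq]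
    exact pointOfClosedPoint_comp q z hz)
  obtain ⟨g, hg⟩ := h y₁ y₂ (Over.OverMorphism.ext (by
    show (ζ ≫ _) ≫ φ.left = (ζ ≫ _) ≫ φ.left
    rw [Category.assoc, Category.assoc, pullback.condition]))
  refine ⟨(lift g y₂).left (IsLocalRing.closedPoint k), ?_⟩
  have e : (lift g y₂).left ≫ GIT.PsiY aP φ hi = ζ := by
    apply pullback.hom_ext
    · rw [Category.assoc, GIT.PsiY, pullback.lift_fst, ← Over.comp_left, hg]
      rfl
    · rw [Category.assoc, GIT.PsiY, pullback.lift_snd, ← Over.comp_left, lift_snd]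
      rfl
  refine (congrArg (fun m : (𝟙_ (Over (Sk k))).left ⟶ pullback φ.left φ.left => m (IsLocalRing.closedPoint k)) e).trans ?_
  exact pointOfClosedPoint_apply q z hz _
where
  surjective_of_closed_points {A B : Type u} [TopologicalSpace A] [TopologicalSpace B] [NoetherianSpace A]
      [QuasiSober A] [T0Space B] [JacobsonSpace B] {g : A → B} (hg : Continuous g)
      (h : ∀ z : B, IsClosed ({z} : Set B) → z ∈ Set.range g) : Function.Surjective g := by
    intro z
    let T := closure ({z} : Set B)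
    obtain ⟨𝒮, h𝒮, hcl, hirr, hA⟩ :=
      NoetherianSpace.exists_finite_set_isClosed_irreducible (isClosed_closure.preimage hg : IsClosed (g ⁻¹' T))
    have hsub : T ⊆ ⋃ t ∈ 𝒮, closure (g '' t) := by
      have hc : IsClosed (⋃ t ∈ 𝒮, closure (g '' t)) := h𝒮.isClosed_biUnion fun t _ => isClosed_closure
      refine (closure_inter_closedPoints isClosed_closure).symm.subset.trans ((IsClosed.closure_subset_iff hc).2 ?_)
      rintro w ⟨hwT, hw⟩
      obtain ⟨a, rfl⟩ := h w hw
      have : a ∈ ⋃₀ 𝒮 := hA ▸ hwT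
      obtain ⟨t, ht, hat⟩ := this
      exact Set.mem_biUnion ht (subset_closure ⟨a, hat, rfl⟩)
    obtain ⟨t, ht, hzt⟩ := Set.mem_iUnion₂.1 (hsub (subset_closure (Set.mem_singleton z)))
    refine ⟨(hirr t ht).genericPoint, ?_⟩
    have hgt := (hirr t ht).closure_genericPoint (hcl t ht)
    have hmem : (hirr t ht).genericPoint ∈ t := by
      have := subset_closure (Set.mem_singleton (hirr t ht).genericPoint)
      rwa [hgt] at this
    have hz2 : g (hirr t ht).genericPoint ∈ T := by
      have : (hirr t ht).genericPoint ∈ g ⁻¹' T := hA ▸ Set.mem_sUnion.2 ⟨t, ht, hmem⟩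
      exact this
    have hz1 : z ∈ closure ({g (hirr t ht).genericPoint} : Set B) := by
      refine closure_minimal ?_ isClosed_closure hzt
      calc g '' t = g '' closure {(hirr t ht).genericPoint} := congrArg (g '' ·) hgt.symm
        _ ⊆ closure (g '' {(hirr t ht).genericPoint}) := image_closure_subset_closure_image hg
        _ = closure {g (hirr t ht).genericPoint} := by rw [Set.image_singleton]
    exact ((specializes_iff_mem_closure.2 hz2).antisymm (specializes_iff_mem_closure.2 hz1)).eq.symm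

end Groth.Agent.H20Num
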