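import Groth.Agent.H20Num.Model
import Groth.Agent.H20Mu.Line
import Groth.Agent.H20Mu.Torus
import Groth.Agent.H20LRQ.Bridge
import Groth.Agent.H20LRQ.Affine

/-!
# Rational points of affine schemes with a coaction, and maps from the line
-/

set_option autoImplicit false
set_option linter.style.haveILetI false
set_option backward.isDefEq.respectTransparency false

universe u

open CategoryTheory CategoryTheory.Limits MonoidalCategory CartesianMonoidalCategory MonObj AlgebraicGeometry Opposite
open TensorProduct WithConv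
open Groth.Agent.H27Witt

noncomputable section

namespace Groth.Agent.H20Num

open H20Mu

variable {k : Type u} [Field k]

section Points

variable {P : Over (Sk k)} {R : Type u} [CommRing R] [Algebra k R] (u : P ≅ CoactBr.sp k R)

/-- The model ring as the ring of functions. -/
def fnIso : R ≃ₐ[k] Fn P :=
  (Fn.specAlg (k := k) R).trans (AlgEquiv.ofAlgHom (Fn.pull u.hom) (Fn.pull u.inv)
    ((Fn.pull_comp u.hom u.inv).symm.trans (by rw [u.hom_inv_id, Fn.pull_id]))
    ((Fn.pull_comp u.inv u.hom).symm.trans (by rw [u.inv_hom_id, Fn.pull_id]; rfl)))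

/-- The algebra point of a rational point. -/
def ptX (y : 𝟙_ (Over (Sk k)) ⟶ P) : R →ₐ[k] k := (val y).comp (fnIso u).toAlgHom

theorem ptX_apply (y : 𝟙_ (Over (Sk k)) ⟶ P) (r : R) : ptX u y r = val y (fnIso u r) := rfl

include u in
theorem finiteType_ring [IsAffine P.left] [LocallyOfFiniteType P.hom] : Algebra.FiniteType k R :=
  haveI : Algebra.FiniteType k (Fn P) := Fn.finiteType (k := k) P
  Algebra.FiniteType.of_surjective (fnIso u).symm.toAlgHom (fnIso u).symm.surjective

theorem ptX_surjective [IsAffine P.left] (z : R →ₐ[k] k) : ∃ y, ptX u y = z := by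
  obtain ⟨y, hy⟩ := Fn.exists_point (X := P) (z.comp (fnIso u).symm.toAlgHom)
  refine ⟨y, AlgHom.ext fun r => ?_⟩
  rw [ptX_apply]
  show Fn.ev y _ = _
  rw [hy]
  simp

theorem ptX_injective [IsAffine P.left] : Function.Injective (ptX u) := fun y z e => by
  refine Fn.point_ext (X := P) (AlgHom.ext fun F => ?_)
  obtain ⟨r, rfl⟩ := (fnIso u).surjective F
  exact AlgHom.congr_fun e r

theorem val_ract {A : Type u} [CommRing A] [HopfAlgebra k A] [HopfRep.Comod k A R] [GLin.IsCoactAlg k A R]
    (x : 𝟙_ (Over (Sk k)) ⟶ CoactBr.sp k R) (g : 𝟙_ (Over (Sk k)) ⟶ CoactBr.sp k A) (r : R) :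
    val (lift x g ≫ CoactBr.ract k A R) (Fn.specAlg (k := k) R r) =
      GLin.actPt k ((val g).comp (Fn.specAlg (k := k) A).toAlgHom) ((val x).comp (Fn.specAlg (k := k) R).toAlgHom) r := by
  let D : Over (Sk k) := CoactBr.sp k A
  let E : Over (Sk k) := CoactBr.sp k R
  let w : (E ⊗ D).left ⟶ Spec (CommRingCat.of (R ⊗[k] A)) := (pullbackSpecIso k R A).hom
  let L : R ⊗[k] A →+* Γ((E ⊗ D).left, ⊤) :=
    w.appTop.hom.comp (Scheme.ΓSpecIso (CommRingCat.of (R ⊗[k] A))).inv.hom
  have key : ∀ {S : Type u} [CommRing S] (f : S →+* R ⊗[k] A) (p : (E ⊗ D).left ⟶ Spec (CommRingCat.of S)),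
      p = w ≫ Spec.map (CommRingCat.ofHom f) → ∀ s,
        p.appTop ((Scheme.ΓSpecIso (CommRingCat.of S)).inv s) = L (f s) := by
    rintro S _ f p rfl s
    rw [Scheme.Hom.comp_appTop]
    exact congrArg w.appTop congr($(Scheme.ΓSpecIso_inv_naturality (CommRingCat.ofHom f)).hom s).symm
  have hl : ∀ s, (Fn.pull (fst E D) (Fn.specAlg (k := k) R s) : Γ((E ⊗ D).left, ⊤)) = L (s ⊗ₜ 1) :=
    key (Algebra.TensorProduct.includeLeftRingHom : R →+* R ⊗[k] A) (fst E D).left (pullbackSpecIso_hom_fst k R A).symm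
  have hr : ∀ s, (Fn.pull (snd E D) (Fn.specAlg (k := k) A s) : Γ((E ⊗ D).left, ⊤)) = L (1 ⊗ₜ s) :=
    key (Algebra.TensorProduct.includeRight : A →ₐ[k] R ⊗[k] A).toRingHom (snd E D).left
      (pullbackSpecIso_hom_snd k R A).symm
  have hm : (Fn.pull (CoactBr.ract k A R) (Fn.specAlg (k := k) R r) : Γ((E ⊗ D).left, ⊤)) =
      L (GLin.coactAlgHom k A R r) :=
    key (GLin.coactAlgHom k A R).toRingHom (CoactBr.ract k A R).left (CoactBr.ract_left k A R) r
  have hev : ∀ z : R ⊗[k] A, val (lift x g) (L z : Fn (E ⊗ D)) = Algebra.TensorProduct.lift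
      ((val x).comp (Fn.specAlg (k := k) R).toAlgHom) ((val g).comp (Fn.specAlg (k := k) A).toAlgHom)
      (fun _ _ => .all _ _) z := by
    intro z
    induction z using TensorProduct.induction_on with
    | zero =>
      rw [map_zero L, map_zero (Algebra.TensorProduct.lift _ _ _)]
      exact map_zero (val (X := E ⊗ D) (lift x g))
    | tmul a b =>
      rw [Algebra.TensorProduct.lift_tmul, show a ⊗ₜ[k] b = (a ⊗ₜ[k] (1 : A)) * ((1 : R) ⊗ₜ[k] b) by simp, map_mul,
        ← hl, ← hr]
      refine (map_mul (val (X := E ⊗ D) (lift x g)) _ _).trans (congrArg₂ (· * ·) ?_ ?_)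
      · exact (val_pull _ _ _).trans (by rw [lift_fst]; rfl)
      · exact (val_pull _ _ _).trans (by rw [lift_snd]; rfl)
    | add z z' hz hz' =>
      rw [map_add L, map_add (Algebra.TensorProduct.lift _ _ _)]
      exact (map_add (val (X := E ⊗ D) (lift x g)) _ _).trans (congrArg₂ (· + ·) hz hz')
  rw [← val_pull]
  refine (congrArg (val (lift x g)) hm).trans ((hev _).trans ?_)
  show _ = ((val g).comp (Fn.specAlg (k := k) A).toAlgHom) (Algebra.TensorProduct.lid k A
    (Algebra.TensorProduct.map _ (AlgHom.id k A) (GLin.coactAlgHom k A R r)))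
  induction GLin.coactAlgHom k A R r using TensorProduct.induction_on with
  | zero => simp
  | tmul a b => rw [Algebra.TensorProduct.map_tmul, AlgHom.id_apply, Algebra.TensorProduct.lid_tmul, map_smul,
      smul_eq_mul, Algebra.TensorProduct.lift_tmul]
  | add z z' hz hz' => simp only [map_add, hz, hz']

variable {G : Over (Sk k)} [GrpObj G] {A : Type u} [CommRing A] [HopfAlgebra k A] (v : G ≅ CoactBr.sp k A)
  [IsMonHom v.hom] [IsMonHom v.inv] [HopfRep.Comod k A R] [GLin.IsCoactAlg k A R] {aP : AlgGrp.Action G P}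

/-- The right action on rational points is the action through the coaction. -/
theorem ptX_act (hr : CoactBr.ract k A R = H20LRQ.conjAct aP v u) (g : 𝟙_ (Over (Sk k)) ⟶ G)
    (y : 𝟙_ (Over (Sk k)) ⟶ P) :
    ptX u (lift g y ≫ aP.act) = GLin.actPt k (ptQ v g⁻¹).ofConv (ptX u y) := by
  refine AlgHom.ext fun r => ?_
  have e : (lift g y ≫ aP.act) ≫ u.hom = lift (y ≫ u.hom) (g⁻¹ ≫ v.hom) ≫ CoactBr.ract k A R := by
    rw [hr, H20LRQ.lift_conjAct, Category.assoc, Category.assoc, Category.assoc, Iso.hom_inv_id, Category.comp_id,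
      Iso.hom_inv_id, Category.comp_id, inv_inv]
  show val ((lift g y ≫ aP.act) ≫ u.hom) (Fn.specAlg (k := k) R r) = _
  rw [e, val_ract]
  rfl

end Points

/-- Maps from the line to a separated scheme agreeing at almost all rational points agree. -/
theorem line_ext [IsAlgClosed k] {X : Over (Sk k)} [IsSeparated X.hom] {f g : Pl k ⟶ X}
    (h : ∀ c : k, c ≠ 0 → plPt c ≫ f = plPt c ≫ g) : f = g := by
  let p : (Pl k).left ⟶ pullback X.hom X.hom := pullback.lift f.left g.left ((Over.w f).trans (Over.w g).symm)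
  let ι₀ := pullback.snd (pullback.diagonal X.hom) p
  haveI : IsClosedImmersion ι₀ := MorphismProperty.pullback_snd (P := @IsClosedImmersion) _ _ inferInstance
  have hι : ι₀ ≫ f.left = ι₀ ≫ g.left := by
    have e1 := congrArg (· ≫ pullback.fst X.hom X.hom) (pullback.condition (f := pullback.diagonal X.hom) (g := p))
    have e2 := congrArg (· ≫ pullback.snd X.hom X.hom) (pullback.condition (f := pullback.diagonal X.hom) (g := p))
    simp only [Category.assoc, pullback.diagonal_fst, pullback.diagonal_snd, Category.comp_id, p, pullback.lift_fst,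
      pullback.lift_snd] at e1 e2
    exact e1.symm.trans e2
  have hmem : ∀ c : k, c ≠ 0 → (plPt c).left (IsLocalRing.closedPoint k) ∈ Set.range ι₀ := fun c hc => by
    have e : (plPt c).left ≫ f.left = (plPt c).left ≫ g.left := congrArg (fun m : 𝟙_ _ ⟶ X => m.left) (h c hc)
    let q : (𝟙_ (Over (Sk k))).left ⟶ pullback (pullback.diagonal X.hom) p :=
      pullback.lift ((plPt c).left ≫ f.left) (plPt c).left (by
        apply pullback.hom_ext
        · simp only [Category.assoc, pullback.diagonal_fst, Category.comp_id, p, pullback.lift_fst]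
        · simp only [Category.assoc, pullback.diagonal_snd, Category.comp_id, p, pullback.lift_snd, e])
    exact ⟨q (IsLocalRing.closedPoint k), congrArg (fun m : (𝟙_ (Over (Sk k))).left ⟶ (Pl k).left =>
      m (IsLocalRing.closedPoint k)) (pullback.lift_snd _ _ _)⟩
  haveI : Surjective ι₀ := ⟨fun z => by
    by_contra hz
    haveI : IsAffine (Pl k).left := inferInstanceAs (IsAffine (Spec _))
    obtain ⟨F, hFO, hzF⟩ := (isAffineOpen_top (Pl k).left).exists_basicOpen_le
      (V := ⟨(Set.range ι₀)ᶜ, ι₀.isClosedEmbedding.isClosed_range.isOpen_compl⟩) ⟨z, hz⟩ trivial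
    obtain ⟨Q, rfl⟩ : ∃ Q : Polynomial k, (plEquiv Q : Fn (Pl k)) = F :=
      ⟨_, (plEquiv (k := k)).apply_symm_apply F⟩
    have hQ : Q ≠ 0 := by
      rintro rfl
      rw [show ((plEquiv (0 : Polynomial k) : Fn (Pl k)) : Γ((Pl k).left, ⊤)) = 0 from map_zero plEquiv,
        Scheme.basicOpen_zero] at hzF
      exact hzF
    obtain ⟨c, hc⟩ : ∃ c, (Polynomial.X * Q).eval c ≠ 0 := by
      by_contra hcon
      push Not at hcon
      exact mul_ne_zero Polynomial.X_ne_zero hQ
        (Polynomial.eq_zero_of_infinite_isRoot _ (Set.infinite_univ.mono fun c _ => hcon c))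
    rw [Polynomial.eval_mul, Polynomial.eval_X, mul_ne_zero_iff] at hc
    exact hFO ((mem_basicOpen_iff (plPt c) (plEquiv Q)).2 (by rw [val_plPt]; exact hc.2)) (hmem c hc.1)⟩
  haveI : IsReduced (Pl k).left := inferInstanceAs (IsReduced (Spec (CommRingCat.of (Polynomial k))))
  exact Over.OverMorphism.ext (ext_of_isDominant_of_isSeparated X.hom ((Over.w f).trans (Over.w g).symm) ι₀ hι)

end Groth.Agent.H20Num
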