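import Groth.Agent.H20SS.Weight

/-!
# Translates of sections of a linearised bundle
-/

set_option autoImplicit false
set_option linter.style.haveILetI false
set_option backward.isDefEq.respectTransparency false

universe u

open CategoryTheory CategoryTheory.Limits MonoidalCategory CartesianMonoidalCategory MonObj AlgebraicGeometry
  TopologicalSpace Opposite

noncomputable section

namespace Groth.Agent.H20Num

open Groth.Agent.H20SS

variable {S : Scheme.{u}} {G X : Over S} [GrpObj G] {a : AlgGrp.Action G X} (B : GLinSh.LinBun G a)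

/-- The pair of a constant point and the identity. -/
abbrev slice (Y : Over S) (g : 𝟙_ (Over S) ⟶ G) : Y ⟶ G ⊗ Y := lift (toUnit Y ≫ g) (𝟙 Y)

theorem slice_whiskerLeft {Y Z : Over S} (g : 𝟙_ (Over S) ⟶ G) (f : Y ⟶ Z) :
    slice Y g ≫ (G ◁ f) = f ≫ slice Z g := by
  rw [slice, lift_whiskerLeft, Category.id_comp, slice, comp_lift, Category.comp_id, ← Category.assoc,
    comp_toUnit]

/-- Translation by a point of the group carries sections of weight `n` to sections of weight `n`. -/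
theorem hasWeight_translate (g : 𝟙_ (Over S) ⟶ G) {n : ℕ} {f : Γ(B.V.left, ⊤)}
    (hf : GLinSh.HasWeight B.atlas.chart n f) :
    GLinSh.HasWeight B.atlas.chart n ((slice B.V g ≫ B.lift.act).left.appTop f) := by
  refine hasWeight_of_local B.atlas fun x => ?_
  let τ := slice B.V g ≫ B.lift.act
  let t := slice X g ≫ a.act
  have hτ : τ ≫ B.π = B.π ≫ t := by
    simp only [τ, t, Category.assoc, B.lift_π, reassoc_of% slice_whiskerLeft]
  obtain ⟨U, hxU, y, hy⟩ := B.atlas.cover x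
  obtain ⟨U', hxU', y', hy'⟩ := B.atlas.cover (t.left x)
  obtain ⟨c, hc⟩ := B.lift_linear U U' y y' hy hy'
  obtain ⟨cf, hcf⟩ := hf U' y' hy'
  let W : X.left.Opens := U ⊓ t.left ⁻¹ᵁ U'
  have hsX : (slice X g).left ≫ (snd G X).left = 𝟙 X.left := by
    rw [← Over.comp_left, lift_snd, Over.id_left]
  have eX : W ≤ (slice X g).left ⁻¹ᵁ (a.act.left ⁻¹ᵁ U' ⊓ (snd G X).left ⁻¹ᵁ U) := fun z hz =>
    ⟨hz.2, by show ((slice X g).left ≫ (snd G X).left) z ∈ U; rw [hsX]; exact hz.1⟩
  have eV : B.π.left ⁻¹ᵁ W ≤ (slice B.V g).left ⁻¹ᵁ GLinSh.liftOpen a B.π U U' := fun p hp => by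
    refine ⟨?_, ?_⟩
    · show (slice B.V g ≫ (G ◁ B.π) ≫ a.act).left p ∈ U'
      rw [reassoc_of% slice_whiskerLeft]
      exact hp.2
    · show (slice B.V g ≫ (G ◁ B.π) ≫ snd G X).left p ∈ U
      rw [reassoc_of% slice_whiskerLeft, lift_snd, Category.comp_id]
      exact hp.1
  have eτ : B.π.left ⁻¹ᵁ W ≤ τ.left ⁻¹ᵁ (B.π.left ⁻¹ᵁ U') := fun p hp => by
    show (τ ≫ B.π).left p ∈ U'
    rw [hτ]
    exact hp.2
  have key : τ.left.appLE (B.π.left ⁻¹ᵁ U') (B.π.left ⁻¹ᵁ W) eτ y' =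
      B.π.left.app W ((slice X g).left.appLE _ W eX c) * GLinSh.res B.π inf_le_left y := by
    have h := congrArg ((slice B.V g).left.appLE _ _ eV) hc
    rw [map_mul, appLE_appLE, appLE_appLE, appLE_appLE] at h
    refine h.trans (congrArg₂ (· * ·) ?_ ?_)
    · rw [Scheme.Hom.app_eq_appLE, appLE_appLE]
      exact appLE_congr_hom (congrArg CommaMorphism.left (slice_whiskerLeft g B.π)) _ _
    · refine (appLE_congr_hom (f := (slice B.V g).left ≫ (snd G B.V).left) (g := 𝟙 B.V.left)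
        (by rw [← Over.comp_left, lift_snd, Over.id_left]) _ _).trans ?_
      rfl
  refine ⟨W, U, inf_le_left, y, ⟨hxU, hxU'⟩, hy, ?_⟩
  refine ⟨t.left.appLE U' W inf_le_right cf * (slice X g).left.appLE _ W eX c ^ n, ?_⟩
  have h2 := congrArg (τ.left.appLE (B.π.left ⁻¹ᵁ U') (B.π.left ⁻¹ᵁ W) eτ) hcf
  rw [map_mul, map_pow, key, mul_pow, ← _root_.mul_assoc] at h2
  rw [map_mul, map_pow]
  refine Eq.trans ?_ (h2.trans (congrArg (· * _) (congrArg (· * _) ?_)))
  · unfold GLinSh.resTop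
    rw [appLE_res, Scheme.Hom.appTop, Scheme.Hom.app_eq_appLE]
    exact res_appLE τ.left _ le_top f
  · rw [Scheme.Hom.app_eq_appLE, appLE_appLE, Scheme.Hom.app_eq_appLE, appLE_appLE]
    exact appLE_congr_hom (congrArg CommaMorphism.left hτ) _ _

end Groth.Agent.H20Num
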