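import Groth.Agent.H20Num.Affine
import Groth.Agent.H20Num.Translate
import Groth.Agent.H20Num.Model
import Groth.Agent.H20Mu.Weights
import Groth.Agent.H20SS.Inv

/-!
# The linear representation carried by the sections of an ample linearised bundle
-/

set_option autoImplicit false
set_option linter.style.haveILetI false
set_option backward.isDefEq.respectTransparency false

universe u

open CategoryTheory CategoryTheory.Limits MonoidalCategory CartesianMonoidalCategory MonObj AlgebraicGeometry Opposite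
open TensorProduct WithConv Matrix
open Groth.Agent.H27Witt Groth.Agent.H20HM Groth.Agent.H20SS

noncomputable section

namespace Groth.Agent.H20Num

open H20Mu

variable {k : Type u} [Field k] {G X : Over (Sk k)} [GrpObj G] {a : AlgGrp.Action G X} (B : GLinSh.LinBun G a)

/-- Translation of functions on the total space. -/
def transl (g : 𝟙_ (Over (Sk k)) ⟶ G) : Fn B.V →ₐ[k] Fn B.V := Fn.pull (slice B.V g ≫ B.lift.act)

theorem transl_mul (g h : 𝟙_ (Over (Sk k)) ⟶ G) (F : Fn B.V) :
    transl B g (transl B h F) = transl B (h * g) F := by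
  rw [transl, transl, transl, Fn.pull_pull]
  congr 2
  rw [Category.assoc, ← Category.assoc B.lift.act, slice, comp_lift, Category.comp_id, ← Category.assoc _ (toUnit _),
    comp_toUnit, comp_lift_assoc, ← Category.assoc _ (toUnit _), comp_toUnit]
  simp only [slice, MonObj.comp_mul, mul_act']

theorem transl_one (F : Fn B.V) : transl B 1 F = F := by
  rw [transl, slice, MonObj.comp_one, one_act', Fn.pull_id]
  rfl

theorem val_transl (g : 𝟙_ (Over (Sk k)) ⟶ G) (p : 𝟙_ (Over (Sk k)) ⟶ B.V) (F : Fn B.V) :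
    val p (transl B g F) = val (lift g p ≫ B.lift.act) F := by
  rw [transl, val_pull, slice, comp_lift_assoc, Category.comp_id, ← Category.assoc, toUnit_unique (p ≫ toUnit _) (𝟙 _),
    Category.id_comp]

theorem hasWeight_algebraMap_mul {n : ℕ} (c : k) {f : Fn B.V} (hf : GLinSh.HasWeight B.atlas.chart n f) :
    GLinSh.HasWeight B.atlas.chart n (c • f : Fn B.V) := by
  let r : Γ(Sk k, ⊤) := (Scheme.ΓSpecIso (CommRingCat.of k)).inv c
  have e : (algebraMap k (Fn B.V) c : Fn B.V) = scalar B r := rfl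
  rw [Algebra.smul_def, e]
  simpa using hasWeight_mul B.atlas (isInvSection_scalar B r).1 hf

theorem hasWeight_of_mem_span {n : ℕ} {s : Set (Fn B.V)} (hs : ∀ f ∈ s, GLinSh.HasWeight B.atlas.chart n f)
    {f : Fn B.V} (hf : f ∈ Submodule.span k s) : GLinSh.HasWeight B.atlas.chart n f := by
  induction hf using Submodule.span_induction with
  | mem f hf => exact hs f hf
  | zero => exact hasWeight_zero B.atlas n
  | add f g _ _ hf hg => exact hasWeight_add B.atlas hf hg
  | smul c f _ hf => exact hasWeight_algebraMap_mul B c hf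

variable [IsAlgClosed k] [CharZero k]

/-- A finite-dimensional stable space of sections without base points. -/
theorem exists_space (hB : HMNum.AmpleCover B) [IsAffine G.left] [IsSeparated X.hom] :
    ∃ (N d : ℕ) (b : Fin d → Fn B.V) (E : Fin d → Fin d → Fn G), 0 < N ∧
      (∀ j, GLinSh.HasWeight B.atlas.chart N (b j)) ∧ LinearIndependent k b ∧
      (∀ g j, transl B g (b j) = ∑ i, val g (E i j) • b i) ∧
      ∀ x : 𝟙_ (Over (Sk k)) ⟶ X, ∃ j, ∃ p : 𝟙_ (Over (Sk k)) ⟶ B.V, p ≫ B.π = x ∧ val p (b j) ≠ 0 := by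
  classical
  obtain ⟨N, r, f, hN, hf, -, hcov⟩ := exists_uniform_cover B hB
  haveI := hB.1
  haveI := H20Mu.compactSpace_total B
  haveI := H20Mu.quasiSeparatedSpace_total B
  choose n c e hdec using fun i => exists_decomp_qcqs (Fn.pull B.lift.act (f i : Fn B.V))
  have hslice : ∀ g i, transl B g (f i) = ∑ l, val g (c i l) • e i l := fun g i => by
    rw [transl, ← Fn.pull_pull, hdec, map_sum]
    refine Finset.sum_congr rfl fun l _ => ?_
    rw [map_mul, Fn.pull_pull, Fn.pull_pull, slice, lift_fst, lift_snd, Fn.pull_id, Algebra.smul_def]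
    refine congrArg₂ (· * ·) ?_ rfl
    rw [Fn.pull_comp, AlgHom.comp_apply]
    exact ((Fn.pull (toUnit B.V)).congr_arg (struct_gamma _).symm).trans ((Fn.pull (toUnit B.V)).commutes _)
  let W : Submodule k (Fn B.V) := Submodule.span k (Set.range fun p : (𝟙_ (Over (Sk k)) ⟶ G) × Fin r =>
    transl B p.1 (f p.2))
  have hWle : W ≤ Submodule.span k (Set.range fun q : Σ i, Fin (n i) => e q.1 q.2) := by
    refine Submodule.span_le.2 ?_
    rintro _ ⟨⟨g, i⟩, rfl⟩
    show transl B g (f i) ∈ _
    rw [hslice]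
    exact Submodule.sum_mem _ fun l _ => Submodule.smul_mem _ _ (Submodule.subset_span ⟨⟨i, l⟩, rfl⟩)
  haveI : Module.Finite k (Submodule.span k (Set.range fun q : Σ i, Fin (n i) => e q.1 q.2)) :=
    Module.Finite.span_of_finite k (Set.finite_range _)
  haveI : Module.Finite k W := Submodule.finiteDimensional_of_le hWle
  have hWw : ∀ w ∈ W, GLinSh.HasWeight B.atlas.chart N w := fun w hw => hasWeight_of_mem_span B (by
    rintro _ ⟨⟨g, i⟩, rfl⟩
    exact hasWeight_translate B g (hf i)) hw
  have hstab : ∀ g, ∀ w ∈ W, transl B g w ∈ W := by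
    intro g w hw
    induction hw using Submodule.span_induction with
    | mem w hw =>
      obtain ⟨⟨h, i⟩, rfl⟩ := hw
      exact Submodule.subset_span ⟨⟨h * g, i⟩, (transl_mul B g h _).symm⟩
    | zero => rw [map_zero]; exact zero_mem _
    | add w w' _ _ hw hw' => rw [map_add]; exact add_mem hw hw'
    | smul t w _ hw => rw [map_smul]; exact Submodule.smul_mem _ _ hw
  let β := Module.finBasis k W
  obtain ⟨π, hπ⟩ := LinearMap.exists_leftInverse_of_injective W.subtype (Submodule.ker_subtype W)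
  choose n' c' e' hdec' using fun j => exists_decomp_qcqs (Fn.pull B.lift.act (β j : Fn B.V))
  have hslice' : ∀ g j, transl B g (β j : Fn B.V) = ∑ l, val g (c' j l) • e' j l := fun g j => by
    rw [transl, ← Fn.pull_pull, hdec', map_sum]
    refine Finset.sum_congr rfl fun l _ => ?_
    rw [map_mul, Fn.pull_pull, Fn.pull_pull, slice, lift_fst, lift_snd, Fn.pull_id, Algebra.smul_def]
    refine congrArg₂ (· * ·) ?_ rfl
    rw [Fn.pull_comp, AlgHom.comp_apply]
    exact ((Fn.pull (toUnit B.V)).congr_arg (struct_gamma _).symm).trans ((Fn.pull (toUnit B.V)).commutes _)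
  refine ⟨N, _, fun j => (β j : Fn B.V), fun i j => ∑ l, β.repr (π (e' j l)) i • c' j l, hN,
    fun j => hWw _ (β j).2, β.linearIndependent.map' W.subtype (Submodule.ker_subtype W), fun g j => ?_, fun x => ?_⟩
  · have h1 : π (transl B g (β j : Fn B.V)) = ⟨_, hstab g _ (β j).2⟩ :=
      LinearMap.congr_fun hπ ⟨_, hstab g _ (β j).2⟩
    have h3 : π (transl B g (β j : Fn B.V)) = ∑ i, val g (∑ l, β.repr (π (e' j l)) i • c' j l) • β i := by
      rw [hslice']
      simp only [map_sum, map_smul, smul_eq_mul, Finset.sum_smul, mul_comm (β.repr _ _), mul_smul]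
      rw [Finset.sum_comm]
      exact Finset.sum_congr rfl fun l _ => by rw [← Finset.smul_sum, β.sum_repr]
    rw [h1] at h3
    simpa using congrArg Subtype.val h3
  · by_contra hne
    push Not at hne
    obtain ⟨i, hi⟩ := hcov (x.left (IsLocalRing.closedPoint k))
    obtain ⟨p, hp, hpne⟩ := exists_val_ne_zero B (hf i) x (by
      rw [← coe_nvOpen B.atlas (hf i)]; exact hi)
    refine hpne ?_
    have hmem : (f i : Fn B.V) ∈ W := Submodule.subset_span ⟨⟨1, i⟩, transl_one B _⟩
    have h4 : (f i : Fn B.V) = ∑ j, β.repr ⟨_, hmem⟩ j • (β j : Fn B.V) := by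
      have := congrArg W.subtype (β.sum_repr ⟨_, hmem⟩)
      rw [map_sum] at this
      simp only [map_smul, Submodule.subtype_apply] at this
      exact this.symm
    rw [h4, map_sum]
    exact Finset.sum_eq_zero fun j _ => by rw [map_smul, hne j p hp, smul_zero]

variable {B} {A : Type u} [CommRing A] [HopfAlgebra k A] (v : G ≅ CoactBr.sp k A) [IsMonHom v.hom]

/-- The matrix of a stable space of sections. -/
theorem exists_corep [IsAffine G.left] [Smooth G.hom] [Algebra.FiniteType k A] {d : ℕ} {b : Fin d → Fn B.V}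
    (hb : LinearIndependent k b) {E : Fin d → Fin d → Fn G}
    (hE : ∀ g j, transl B g (b j) = ∑ i, val g (E i j) • b i) :
    ∃ e : Matrix (ULift.{u} (Fin d)) (ULift.{u} (Fin d)) A, IsCorep k e ∧
      ∀ g j, transl B g⁻¹ (b j) = ∑ i, ev e (ptQ v g) ⟨i⟩ ⟨j⟩ • b i := by
  classical
  let e : Matrix (ULift.{u} (Fin d)) (ULift.{u} (Fin d)) A :=
    Matrix.of fun i j => HopfAlgebra.antipode k ((fnEquiv v).symm (E i.down j.down))
  have hev : ∀ g j, transl B g⁻¹ (b j) = ∑ i, ev e (ptQ v g) ⟨i⟩ ⟨j⟩ • b i := fun g j => by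
    rw [hE]
    refine Finset.sum_congr rfl fun i _ => congrArg (· • b i) ?_
    show _ = (ptQ v g).ofConv (HopfAlgebra.antipode k _)
    rw [apply_antipode, ← ptQ_inv, ptQ_apply, AlgEquiv.apply_symm_apply]
  have huniq : ∀ {c c' : Fin d → k}, ∑ i, c i • b i = ∑ i, c' i • b i → c = c' := fun {c c'} h => by
    have h1 : ∑ i, (c i - c' i) • b i = 0 := by simp [sub_smul, Finset.sum_sub_distrib, h]
    exact funext fun i => sub_eq_zero.1 (Fintype.linearIndependent_iff.1 hb _ h1 i)
  have hmul : ∀ q q' : WithConv (A →ₐ[k] k), ev e (q * q') = ev e q * ev e q' := by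
    intro q q'
    obtain ⟨g, rfl⟩ := ptQ_surjective v q
    obtain ⟨h, rfl⟩ := ptQ_surjective v q'
    ext ⟨i⟩ ⟨j⟩
    rw [← ptQ_mul]
    refine congrFun (huniq (c := fun i => ev e (ptQ v (g * h)) ⟨i⟩ ⟨j⟩)
      (c' := fun i => (ev e (ptQ v g) * ev e (ptQ v h)) ⟨i⟩ ⟨j⟩) ?_) i
    rw [← hev, _root_.mul_inv_rev, ← transl_mul, hev, map_sum]
    simp only [Matrix.mul_apply, map_smul, hev, Finset.smul_sum, smul_smul, Finset.sum_smul]
    rw [Finset.sum_comm]
    refine Finset.sum_congr rfl fun i' _ => ?_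
    rw [← Equiv.sum_comp Equiv.ulift.symm]
    exact Finset.sum_congr rfl fun l _ => by rw [mul_comm]; rfl
  have hone : ev e (1 : WithConv (A →ₐ[k] k)) = 1 := by
    rw [← ptQ_one v]
    ext ⟨i⟩ ⟨j⟩
    refine congrFun (huniq (c := fun i => ev e (ptQ v 1) ⟨i⟩ ⟨j⟩)
      (c' := fun i => (1 : Matrix (ULift.{u} (Fin d)) (ULift.{u} (Fin d)) k) ⟨i⟩ ⟨j⟩) ?_) i
    rw [← hev, inv_one, transl_one]
    simp [Matrix.one_apply, ULift.ext_iff]
  refine ⟨e, ⟨fun i j => ?_, fun i j => ?_⟩, hev⟩
  · rw [← sub_eq_zero]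
    refine tensor_eq_zero_of_forall_pt (k := k) _ fun q' => eq_of_forall_pt (k := k) fun q => ?_
    have key : ∀ z : A ⊗[k] A, q.ofConv (TensorProduct.rid k A (q'.ofConv.toLinearMap.lTensor A z)) =
        Algebra.TensorProduct.lift q.ofConv q'.ofConv (fun _ _ => .all _ _) z := fun z => by
      induction z using TensorProduct.induction_on with
      | zero => simp
      | tmul x y => simp [mul_comm]
      | add x y hx hy => simp only [map_add, hx, hy]
    rw [key, map_sub, map_zero, sub_eq_zero, map_sum]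
    refine (AlgHom.convMul_apply q q' (e i j)).symm.trans ((congrFun (congrFun (hmul q q') i) j).trans ?_)
    rw [Matrix.mul_apply]
    exact Finset.sum_congr rfl fun l _ => (Algebra.TensorProduct.lift_tmul _ _ _ _ _).symm
  · exact congrFun (congrFun hone i) j

end Groth.Agent.H20Num
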