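import Groth.Agent.H20Num.OnePS
import Groth.Agent.H20HM.Main
import Groth.Agent.H20Mu.Torus
import Groth.Agent.H21Split.Red0.GeomSplit

/-!
# The Hilbert–Mumford criterion on proper schemes: semistability
-/

set_option autoImplicit false
set_option linter.style.haveILetI false
set_option backward.isDefEq.respectTransparency false

universe u

open CategoryTheory CategoryTheory.Limits MonoidalCategory CartesianMonoidalCategory MonObj AlgebraicGeometry Opposite
open TensorProduct WithConv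
open Groth.Agent.H27Witt Groth.Agent.H20HM Groth.Agent.H20SS

noncomputable section

namespace Groth.Agent.H20Num

open H20Mu

variable {k : Type u} [Field k] [IsAlgClosed k] {G X : Over (Sk k)} [GrpObj G] {a : AlgGrp.Action G X}
  (B : GLinSh.LinBun G a)

theorem isTorus_gm : Red.IsTorus (Red.Gm (Sk k)) :=
  H21Red0.isTorus_split (M := ℤ) (Iso.refl _)

omit [IsAlgClosed k] in
theorem isCharFn_one {T : Over (Sk k)} [GrpObj T] : IsCharFn (1 : Fn T) :=
  ⟨map_one _, fun s t => by rw [map_one, map_one, map_one, _root_.mul_one]⟩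

theorem pair_one {T : Over (Sk k)} [GrpObj T] (l : Red.Gm (Sk k) ⟶ T) [IsMonHom l] : pair (1 : Fn T) l = 0 := by
  refine eq_of_forall_zpow (k := k) fun c => Units.ext ?_
  have h := val_comp_char l (isCharFn_one (k := k) (T := T)) (ofPar c)
  rw [map_one, par_ofPar] at h
  rw [← h, zpow_zero, Units.val_one]

theorem mem_nonvanishing {f : Fn B.V} {x : 𝟙_ (Over (Sk k)) ⟶ X} {p : 𝟙_ (Over (Sk k)) ⟶ B.V}
    (hp : p ≫ B.π = x) (hne : val p f ≠ 0) :
    x.left (IsLocalRing.closedPoint k) ∈ GLinSh.nonvanishing B.π f := by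
  refine ⟨p.left (IsLocalRing.closedPoint k), (mem_basicOpen_iff p f).2 hne, ?_⟩
  rw [← hp]
  rfl

/-- Along a one-parameter subgroup the weights of a semistable point are non-positive. -/
theorem fibreWeight_nonpos [IsProper X.hom] (hB : HMNum.AmpleCover B) {n : ℕ} (hn : 0 < n) {f : Fn B.V}
    (hf : B.IsInvSection n f) (x : 𝟙_ (Over (Sk k)) ⟶ X)
    (hx : x.left (IsLocalRing.closedPoint k) ∈ GLinSh.nonvanishing B.π f)
    (l : Red.Gm (Sk k) ⟶ G) [IsMonHom l] (m : ℤ) (hm : HMNum.IsMu B l x m) : 0 ≤ m := by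
  obtain ⟨r, deg, g, F, hdeg, hg, hF, hhom, hsep⟩ := exists_family B l isTorus_gm hB
  obtain ⟨p, hp, hpne⟩ := exists_val_ne_zero B hf.1 x hx
  have hinv : ∀ (t : 𝟙_ (Over (Sk k)) ⟶ Red.Gm (Sk k)) (q : 𝟙_ (Over (Sk k)) ⟶ B.V),
      val (lift (t ≫ l) q ≫ B.lift.act) f = val q f := fun t q => by
    have h := congrArg (val (lift (t ≫ l) q)) (show Fn.pull B.lift.act f = Fn.pull (snd G B.V) f from hf.2)
    rwa [val_pull, val_pull, lift_snd] at h
  obtain ⟨y, w, hlim, hw, j₀, hj₀, hpair, hmin⟩ := exists_limit_weight B l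
    (deg := Fin.cons n deg) (g := Fin.cons 1 g) (F := Fin.cons f F)
    (Fin.cases hn hdeg) (Fin.cases isCharFn_one hg)
    (fun j => Fin.cases (fun t q => by
      show val _ f = val t 1 * val q f
      rw [hinv, map_one, _root_.one_mul]) hF j)
    (Fin.cases (homog_of_hasWeight B hf.1) hhom)
    (fun x' => (hsep x').elim fun j hj => ⟨j.succ, hj⟩) x (𝟙 _)
  have h0 := hmin 0 ⟨p, hp, hpne⟩
  simp only [Fin.cons_zero, pair_one, mul_zero] at h0
  rw [hpair] at h0
  simp only [Category.id_comp] at hlim hw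
  obtain ⟨y', hlim', hw'⟩ := hm
  obtain rfl := isLimitPt_unique l x y y' hlim hlim'
  obtain ⟨jy, hjy⟩ := hsep y
  have h1 := (pair_eq_of_fibreWeight B l hg hF hhom (𝟙 _) (by simpa only [Category.id_comp] using hw) hjy).symm.trans
    (pair_eq_of_fibreWeight B l hg hF hhom (𝟙 _) (by simpa only [Category.id_comp] using hw') hjy : pair (g jy) (𝟙 _) = (deg jy : ℤ) * -m)
  have h2 := mul_left_cancel₀ (by have := hdeg jy; omega) h1
  have hd0 : (0 : ℤ) < ((Fin.cons n deg : Fin (r + 1) → ℕ) j₀ : ℤ) := by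
    have : ∀ j, 0 < (Fin.cons n deg : Fin (r + 1) → ℕ) j := Fin.cases hn hdeg
    exact_mod_cast this j₀
  have h3 : w ≤ 0 := by
    by_contra hcon
    have : (0 : ℤ) < (n : ℤ) * (((Fin.cons n deg : Fin (r + 1) → ℕ) j₀ : ℤ) * w) :=
      mul_pos (by exact_mod_cast hn) (mul_pos hd0 (by omega))
    omega
  omega

/-- A family of homogeneous functions with polynomial values along a one-parameter subgroup bounds `μ`. -/
theorem exists_isMu_le_of_tendsto [IsProper X.hom] [CompactSpace X.left] {N : ℕ} (hN : 0 < N) {d : ℕ}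
    (b : Fin d → Fn B.V) (hb : ∀ j, GLinSh.HasWeight B.atlas.chart N (b j))
    (hbp : ∀ x : 𝟙_ (Over (Sk k)) ⟶ X, ∃ j, ∃ p : 𝟙_ (Over (Sk k)) ⟶ B.V, p ≫ B.π = x ∧ val p (b j) ≠ 0)
    (x : 𝟙_ (Over (Sk k)) ⟶ X) (l : Red.Gm (Sk k) ⟶ G) [IsMonHom l]
    (p : 𝟙_ (Over (Sk k)) ⟶ B.V) (hp : p ≫ B.π = x) (hp0 : ∃ j, val p (b j) ≠ 0) (r : ℕ) (Q : Fin d → Polynomial k)
    (hQ : ∀ j (u : 𝟙_ (Over (Sk k)) ⟶ Red.Gm (Sk k)),
      val (lift (u ≫ l) p ≫ B.lift.act) (b j) = (par u : k) ^ r * (Q j).eval (par u : k)) :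
    ∃ m : ℤ, HMNum.IsMu B l x m ∧ (N : ℤ) * m ≤ -(r : ℤ) := by
  classical
  choose M g F hg hF hhom hsum using fun j => exists_eigen B l isTorus_gm (hb j)
  let grp : Fin d → ℤ → Fn B.V := fun j e => ∑ q ∈ Finset.univ.filter (fun q => pair (g j q) (𝟙 _) = e), F j q
  let Ix : Type := Σ j : Fin d, ↥(Finset.univ.image fun q => pair (g j q) (𝟙 (Red.Gm (Sk k))))
  let en := (Fintype.equivFin Ix).symm
  have hzc : ∀ e : ℤ, IsCharFn ((zFn ^ e : (Fn (Red.Gm (Sk k)))ˣ) : Fn (Red.Gm (Sk k))) := fun e =>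
    ⟨by rw [val_zFn_zpow, par_one, _root_.one_zpow, Units.val_one],
      fun s t => by rw [val_zFn_zpow, val_zFn_zpow, val_zFn_zpow, par_mul, _root_.mul_zpow, Units.val_mul]⟩
  have hpz : ∀ e : ℤ, pair ((zFn ^ e : (Fn (Red.Gm (Sk k)))ˣ) : Fn (Red.Gm (Sk k))) (𝟙 _) = e := fun e => by
    refine eq_of_forall_zpow (k := k) fun c => Units.ext ?_
    have h := val_comp_char (𝟙 (Red.Gm (Sk k))) (hzc e) (ofPar c)
    rw [Category.comp_id, val_zFn_zpow, par_ofPar] at h
    exact h.symm
  have hgrp : ∀ j e (t : 𝟙_ (Over (Sk k)) ⟶ Red.Gm (Sk k)) (q : 𝟙_ (Over (Sk k)) ⟶ B.V),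
      val (lift (t ≫ l) q ≫ B.lift.act) (grp j e) = ((par t ^ e : kˣ) : k) * val q (grp j e) := by
    intro j e t q
    simp only [grp, map_sum, Finset.mul_sum]
    refine Finset.sum_congr rfl fun i hi => ?_
    rw [hF, ← (Finset.mem_filter.1 hi).2]
    refine congrArg (· * _) ?_
    have := val_comp_char (𝟙 (Red.Gm (Sk k))) (hg j i) t
    rwa [Category.comp_id] at this
  have hgh : ∀ j e, Homog B N (grp j e) := fun j e U y hy q q₁ h h₁ hπ hc => by
    simp only [grp, map_sum, Finset.mul_sum]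
    exact Finset.sum_congr rfl fun i _ => hhom j i U y hy q q₁ h h₁ hπ hc
  have htot : ∀ j q, val q (b j) = ∑ e ∈ Finset.univ.image (fun i => pair (g j i) (𝟙 _)), val q (grp j e) := by
    intro j q
    rw [hsum, ← Finset.sum_fiberwise_of_maps_to (g := fun i => pair (g j i) (𝟙 (Red.Gm (Sk k))))
      (fun i _ => Finset.mem_image_of_mem _ (Finset.mem_univ i))]
    simp only [grp, map_sum]
  have hneg : ∀ j e, e ∈ Finset.univ.image (fun i => pair (g j i) (𝟙 _)) → val p (grp j e) ≠ 0 → (r : ℤ) ≤ e := by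
    intro j e he hne
    by_contra hle
    let s := Finset.univ.image (fun i => pair (g j i) (𝟙 (Red.Gm (Sk k))))
    let T := s ∪ ((Finset.range ((Q j).natDegree + 1)).image fun i : ℕ => ((i : ℤ) + r))
    let c : ℤ → k := fun e => (if e ∈ s then val p (grp j e) else 0) - (if (r : ℤ) ≤ e then (Q j).coeff (e - r).toNat else 0)
    have h0 := laurent_coeff_eq_zero (k := k) (s := T) (c := c) (fun u => ?_) e (Finset.mem_union_left _ he)
    · simp only [c, if_neg hle, sub_zero] at h0
      rw [if_pos (show e ∈ s from he)] at h0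
      exact hne h0
    · simp only [c, sub_mul, Finset.sum_sub_distrib, ite_mul, zero_mul]
      rw [sub_eq_zero, ← Finset.sum_filter, ← Finset.sum_filter]
      have hl : (T.filter (· ∈ s)) = s := by ext; simp [T]
      have hr : T.filter (fun e : ℤ => (r : ℤ) ≤ e) ⊇ (Finset.range ((Q j).natDegree + 1)).image fun i : ℕ => ((i : ℤ) + r) := by
        intro z hz
        refine Finset.mem_filter.2 ⟨Finset.mem_union_right _ hz, ?_⟩
        obtain ⟨i, -, rfl⟩ := Finset.mem_image.1 hz
        omega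
      rw [hl, ← Finset.sum_subset hr (fun z hz hzn => ?_)]
      · have h1 := hQ j (ofPar u)
        rw [htot, Polynomial.eval_eq_sum_range, Finset.mul_sum] at h1
        simp only [hgrp, par_ofPar] at h1
        refine Eq.trans ?_ (h1.trans ?_)
        · exact Finset.sum_congr rfl fun z _ => mul_comm _ _
        · conv_rhs => rw [Finset.sum_image (fun (a : ℕ) _ (b : ℕ) _ (h : ((a : ℤ) + r) = (b : ℤ) + r) => by omega)]
          refine Finset.sum_congr rfl fun i _ => ?_
          rw [show ((i : ℤ) + r - r).toNat = i by omega, _root_.zpow_add, zpow_natCast, zpow_natCast, Units.val_mul,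
            Units.val_pow_eq_pow_val, Units.val_pow_eq_pow_val]
          ring
      · have hz0 := (Finset.mem_filter.1 hz).2
        have hbig : (Q j).natDegree < (z - r).toNat := by
          by_contra hcon
          exact hzn (Finset.mem_image.2 ⟨(z - r).toNat, Finset.mem_range.2 (by omega), by omega⟩)
        rw [Polynomial.coeff_eq_zero_of_natDegree_lt hbig, zero_mul]
  obtain ⟨y, w, hlim, hw, i₀, hi₀, hpair, -⟩ := exists_limit_weight B l
    (deg := fun _ : Fin (Fintype.card Ix) => N)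
    (g := fun i => ((zFn ^ ((en i).2.1) : (Fn (Red.Gm (Sk k)))ˣ) : Fn (Red.Gm (Sk k))))
    (F := fun i => grp (en i).1 (en i).2.1) (fun _ => hN) (fun i => hzc _)
    (fun i t q => by rw [val_zFn_zpow]; exact hgrp _ _ t q) (fun i => hgh _ _) (fun x' => by
      obtain ⟨j, q, hq, hne⟩ := hbp x'
      rw [htot] at hne
      obtain ⟨e, he, hne⟩ := Finset.exists_ne_zero_of_sum_ne_zero hne
      refine ⟨en.symm ⟨j, e, he⟩, q, hq, ?_⟩
      dsimp only
      rw [Equiv.apply_symm_apply]
      exact hne) x (𝟙 _)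
  simp only [Category.id_comp] at hlim hw
  obtain ⟨q, hq, hqne⟩ := hi₀
  obtain ⟨U, z, hz, hxU⟩ := exists_chart' B x
  obtain ⟨p₁, hp₁, hp₁z⟩ := exists_normalized B hz x hxU.ge
  have hxq : ∀ (F' : Fn B.V), Homog B N F' → ∀ q' : 𝟙_ (Over (Sk k)) ⟶ B.V, ∀ hq' : q' ≫ B.π = x,
      val q' F' = cval B z q' (by rw [hq', hxU]) ^ N * val p₁ F' := fun F' hF' q' hq' =>
    hF' U z hz q' p₁ _ (by rw [hp₁, hxU]) (hp₁.trans hq'.symm) hp₁z
  have hpne : val p (grp (en i₀).1 (en i₀).2.1) ≠ 0 := by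
    rw [hxq _ (hgh _ _) p hp]
    refine mul_ne_zero (pow_ne_zero _ fun h0 => ?_) fun h0 => ?_
    · obtain ⟨j, hj⟩ := hp0
      refine hj ?_
      rw [hxq _ (homog_of_hasWeight B (hb j)) p hp, h0, zero_pow hN.ne', zero_mul]
    · exact hqne (by rw [hxq _ (hgh _ _) q hq, h0, mul_zero])
  have hpos := hneg _ _ (en i₀).2.2 hpne
  rw [hpz] at hpair
  refine ⟨-w, ⟨y, hlim, by rwa [neg_neg]⟩, ?_⟩
  rw [mul_neg]
  omega

variable [CharZero k] {A : Type u} [CommRing A] [HopfAlgebra k A] {v : G ≅ CoactBr.sp k A} [IsMonHom v.hom]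

/-- **Hilbert–Mumford, semistable points.** -/
theorem isSemistablePt_iff_forall [IsProper X.hom] [IsAffine G.left] [Smooth G.hom] [Algebra.FiniteType k A]
    (hA : HopfRep.IsLinearlyReductive k A) (hB : HMNum.AmpleCover B) (v : G ≅ CoactBr.sp k A) [IsMonHom v.hom]
    (x : 𝟙_ (Over (Sk k)) ⟶ X) :
    B.IsSemistablePt (x.left (IsLocalRing.closedPoint k)) ↔
      ∀ (l : Red.Gm (Sk k) ⟶ G) [IsMonHom l] (m : ℤ), HMNum.IsMu B l x m → 0 ≤ m := by
  classical
  constructor
  · rintro ⟨n, f, hn, hf, hxf, -⟩ l _ m hm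
    exact fibreWeight_nonpos B hB hn hf x hxf l m hm
  intro H
  haveI := hB.1
  haveI := H20Mu.compactSpace_total B
  haveI := H20Mu.quasiSeparatedSpace_total B
  obtain ⟨N, d, b, E, hN, hbw, hbi, hE, hbp⟩ := exists_space B hB
  obtain ⟨e, he, hev⟩ := exists_corep v hbi hE
  obtain ⟨c, hc, hlin, hX⟩ := exists_linear he
  letI := c
  haveI := hc
  obtain ⟨j₁, p, hp, hpne⟩ := hbp x
  let vec : ULift.{u} (Fin d) → k := fun j => val p (b j.down)
  have hvec : vec ≠ 0 := fun h0 => hpne (congrFun h0 ⟨j₁⟩)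
  have horb : ∀ (w : ULift.{u} (Fin d) → k) i,
      GLin.orbitHom k A (GLin.vecPt k _ w) (MvPolynomial.X i) = ∑ j, w j • e j i := fun w i => by
    show Algebra.TensorProduct.lid k A (Algebra.TensorProduct.map (GLin.vecPt k _ w) (AlgHom.id k A)
      (HopfRep.Comod.coact (k := k) (A := A) (MvPolynomial.X i))) = _
    rw [show HopfRep.Comod.coact (k := k) (A := A) (MvPolynomial.X i : MvPolynomial _ k) = _ from hX i, map_sum, map_sum]
    exact Finset.sum_congr rfl fun j _ => by simp [GLin.vecPt]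
  have hφ : ∀ (g : 𝟙_ (Over (Sk k)) ⟶ G) (q : 𝟙_ (Over (Sk k)) ⟶ B.V) (i : ULift.{u} (Fin d)),
      val (lift g⁻¹ q ≫ B.lift.act) (b i.down) = Matrix.vecMul (fun j : ULift.{u} (Fin d) => val q (b j.down)) (ev e (ptQ v g)) i := by
    intro g q i
    rw [← val_transl, hev, map_sum, Matrix.vecMul, dotProduct, ← Equiv.sum_comp Equiv.ulift.symm]
    exact Finset.sum_congr rfl fun l _ => by rw [map_smul, smul_eq_mul, mul_comm]; rfl
  by_contra hns
  have hnull : GLin.IsNullform k A vec := by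
    intro F hF n hn hhom
    by_contra hFne
    refine hns ?_
    let s : Fn B.V := MvPolynomial.aeval (fun j : ULift.{u} (Fin d) => b j.down) F
    have hsw : GLinSh.HasWeight B.atlas.chart (n * N) s := by
      show GLinSh.HasWeight B.atlas.chart (n * N) (MvPolynomial.aeval (fun j : ULift.{u} (Fin d) => b j.down) F : Fn B.V)
      rw [F.as_sum, map_sum]
      refine Submodule.sum_mem (⟨⟨⟨{g : Fn B.V | GLinSh.HasWeight B.atlas.chart (n * N) g},
        fun hf hg => hasWeight_add B.atlas hf hg⟩, hasWeight_zero B.atlas _⟩,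
        fun t f hf => hasWeight_algebraMap_mul B t hf⟩ : Submodule k (Fn B.V)) fun m hm => ?_
      show GLinSh.HasWeight B.atlas.chart (n * N) _
      rw [MvPolynomial.aeval_monomial, ← Algebra.smul_def]
      refine hasWeight_algebraMap_mul B _ ?_
      have hdeg : ∑ i ∈ m.support, m i = n := by
        have := hhom (MvPolynomial.mem_support_iff.1 hm)
        simpa [Finsupp.weight_apply, Finsupp.sum] using this
      rw [← hdeg, Finsupp.prod, Finset.sum_mul]
      clear hdeg hm
      induction m.support using Finset.induction_on with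
      | empty => simpa using hasWeight_one B.atlas
      | insert i S hi ih =>
        rw [Finset.prod_insert hi, Finset.sum_insert hi]
        exact hasWeight_mul B.atlas (hasWeight_pow B.atlas (hbw i.down) (m i)) ih
    have hinv : ∀ g : 𝟙_ (Over (Sk k)) ⟶ G, transl B g s = s := by
      intro g
      rw [← inv_inv g]
      have hh : (transl B g⁻¹⁻¹).comp (MvPolynomial.aeval fun j : ULift.{u} (Fin d) => b j.down) =
          (MvPolynomial.aeval fun j : ULift.{u} (Fin d) => b j.down).comp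
            (((Algebra.TensorProduct.rid k k _).toAlgHom.comp
              (Algebra.TensorProduct.map (AlgHom.id k (MvPolynomial (ULift.{u} (Fin d)) k)) (ptQ v g⁻¹).ofConv)).comp
                (GLin.coactAlgHom k A _)) := by
        refine MvPolynomial.algHom_ext fun i => ?_
        rw [AlgHom.comp_apply, MvPolynomial.aeval_X, hev, AlgHom.comp_apply, AlgHom.comp_apply, AlgHom.comp_apply,
          GLin.coactAlgHom_apply, show HopfRep.Comod.coact (k := k) (A := A) (MvPolynomial.X i : MvPolynomial _ k) = _ from hX i]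
        rw [← Equiv.sum_comp Equiv.ulift.symm (fun j : ULift.{u} (Fin d) => MvPolynomial.X j ⊗ₜ[k] e j i)]
        simp [ev_apply, map_sum, map_smul]
      have h := AlgHom.congr_fun hh F
      rw [AlgHom.comp_apply, AlgHom.comp_apply, AlgHom.comp_apply, AlgHom.comp_apply, GLin.coactAlgHom_apply,
        show HopfRep.Comod.coact (k := k) (A := A) F = F ⊗ₜ[k] (1 : A) from hF] at h
      simpa using h
    have hIs : B.IsInvSection (n * N) s := by
      refine ⟨hsw, ?_⟩
      show Fn.pull B.lift.act s = Fn.pull (snd G B.V) s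
      rw [← sub_eq_zero]
      refine eq_zero_of_slices _ fun g => ?_
      rw [map_sub, sub_eq_zero, Fn.pull_pull, Fn.pull_pull, lift_snd, Fn.pull_id]
      exact hinv g
    have hsx : x.left (IsLocalRing.closedPoint k) ∈ GLinSh.nonvanishing B.π s := by
      refine mem_nonvanishing B hp ?_
      rw [← AlgHom.comp_apply, MvPolynomial.comp_aeval, MvPolynomial.aeval_eq_eval]
      exact hFne
    exact ⟨n * N, s, Nat.mul_pos hn hN, hIs, hsx, nvOpen B.π s, coe_nvOpen B.atlas hsw,
      isAffineOpen_nvOpen B hB (Nat.mul_pos hn hN) hsw⟩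
  obtain ⟨lam, m, hm, hm0⟩ := exists_isMu_neg_of_isNullform horb he hA hlin hvec hnull
  obtain ⟨l, hl, hlq⟩ := exists_onePS v lam
  haveI := hl
  obtain ⟨h, hh, -⟩ := hm
  obtain ⟨m', hm', hneg⟩ := exists_isMu_le_of_tendsto B hN b hbw hbp x l p hp ⟨j₁, hpne⟩ (-m).toNat
    (fun j => h (MvPolynomial.X ⟨j⟩)) (fun j u => by
      have e1 := congrArg (evT (par u)) (AlgHom.congr_fun hh (MvPolynomial.X ⟨j⟩))
      simp only [AlgHom.comp_apply, Polynomial.toLaurentAlg_apply, GLin.shiftedOrbit, MvPolynomial.aeval_X,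
        evT_toLaurent, map_mul, evT_T, GLin.lamOrbit] at e1
      rw [e1, ← _root_.mul_assoc,
        ← zpow_natCast, ← zpow_add₀ (Units.ne_zero _), Int.toNat_of_nonneg (by omega), neg_add_cancel, zpow_zero,
        _root_.one_mul]
      have h2 := hφ (u ≫ l)⁻¹ p ⟨j⟩
      rw [inv_inv, hlq] at h2
      rw [h2]
      exact (apply_orbitHom_vecPt horb ((evT (par u)).comp (lam : A →ₐ[k] LaurentPolynomial k)) vec ⟨j⟩).symm)
  have h3 : 0 ≤ (N : ℤ) * m' := mul_nonneg (by omega) (H l m' hm')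
  omega

end Groth.Agent.H20Num
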