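import Groth.Agent.H20Num.Limit
import Groth.Agent.H20Num.Pts
import Groth.Agent.H20Num.Orbit
import Groth.Agent.H20Num.ClosedOrbit
import Groth.Agent.H20SS.Chart

/-!
# The Hilbert–Mumford criterion on proper schemes: properly stable points
-/

set_option autoImplicit false
set_option linter.style.haveILetI false
set_option backward.isDefEq.respectTransparency false

universe u

open CategoryTheory CategoryTheory.Limits MonoidalCategory CartesianMonoidalCategory MonObj AlgebraicGeometry Opposite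
open TensorProduct WithConv
open Groth.Agent.H27Witt Groth.Agent.H20HM Groth.Agent.H20SS
open Groth.Agent.H20GQ (resObj resIncl)

noncomputable section

namespace Groth.Agent.H20Num

open H20Mu

variable {k : Type u} [Field k] [IsAlgClosed k] {G X : Over (Sk k)} [GrpObj G] {a : AlgGrp.Action G X}
  (B : GLinSh.LinBun G a)

/-- The trivial one-parameter subgroup only takes the value zero. -/
theorem eq_zero_of_isMu_one {x : 𝟙_ (Over (Sk k)) ⟶ X} {m : ℤ} {l : Red.Gm (Sk k) ⟶ G} [IsMonHom l]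
    (hl : ∀ u : 𝟙_ (Over (Sk k)) ⟶ Red.Gm (Sk k), u ≫ l = 1) (hm : HMNum.IsMu B l x m) : m = 0 := by
  obtain ⟨y, -, hw⟩ := hm
  obtain ⟨U, z, hz, hyU, hwt⟩ := fibreWeight_val B hw
  obtain ⟨v₁, hv₁, hv₁z⟩ := exists_normalized B hz y hyU.ge
  have h1 : ∀ u : 𝟙_ (Over (Sk k)) ⟶ Red.Gm (Sk k),
      lift (u ≫ l) v₁ ≫ B.lift.act = v₁ := fun u => by rw [hl, one_act']
  have key : ∀ c : kˣ, ((c ^ (-m) : kˣ) : k) = 1 := fun c => by
    have h := hwt (ofPar c) v₁ hv₁ (by rw [h1, hv₁])
    rw [hv₁z, _root_.mul_one, par_ofPar] at h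
    rw [← h]
    exact (cval_congr B z (h1 _) _ _).trans hv₁z
  have : (-m : ℤ) = 0 := eq_of_forall_zpow (k := k) fun c => by
    rw [zpow_zero]
    exact Units.ext (key c)
  omega

/-- A limit inside the locus of an invariant section has weight zero. -/
theorem weight_eq_zero {n : ℕ} (hn : 0 < n) {f : Fn B.V} (hf : B.IsInvSection n f) (l : Red.Gm (Sk k) ⟶ G)
    [IsMonHom l] {y : 𝟙_ (Over (Sk k)) ⟶ X} (hy : y.left (IsLocalRing.closedPoint k) ∈ GLinSh.nonvanishing B.π f)
    {w : ℤ} (hw : HMNum.HasFibreWeight B l y w) : w = 0 := by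
  obtain ⟨q, hq, hqne⟩ := exists_val_ne_zero B hf.1 y hy
  obtain ⟨U, z, hz, hyU, hwt⟩ := fibreWeight_val B hw
  obtain ⟨v₁, hv₁, hv₁z⟩ := exists_normalized B hz y hyU.ge
  have hhom := homog_of_hasWeight B hf.1
  have hne₁ : val v₁ f ≠ 0 := fun h0 => hqne (by
    rw [hhom U z hz q v₁ (by rw [hq, hyU]) (by rw [hv₁, hyU]) (hv₁.trans hq.symm) hv₁z, h0, mul_zero])
  have h0 : (n : ℤ) * w = 0 := eq_of_forall_zpow (k := k) fun c => by
    have hv' : (lift (ofPar c ≫ l) v₁ ≫ B.lift.act) ≫ B.π = y := by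
      rw [act_π, hv₁]
      simpa using hw.1 _ (𝟙 _) (ofPar c)
    have hinv : val (lift (ofPar c ≫ l) v₁ ≫ B.lift.act) f = val v₁ f := by
      have h := congrArg (val (lift (ofPar c ≫ l) v₁)) (show Fn.pull B.lift.act f = Fn.pull (snd G B.V) f from hf.2)
      rwa [val_pull, val_pull, lift_snd] at h
    have h1 := hhom U z hz _ v₁ (by rw [hv', hyU]) (by rw [hv₁, hyU]) (hv₁.trans hv'.symm) hv₁z
    rw [hinv, hwt (ofPar c) v₁ hv₁ hv', hv₁z, _root_.mul_one, par_ofPar, ← Units.val_pow_eq_pow_val] at h1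
    have h2 : (((c ^ w) ^ n : kˣ) : k) = 1 := mul_right_cancel₀ hne₁ (by rw [_root_.one_mul]; exact h1.symm)
    rw [zpow_zero, mul_comm, zpow_mul, zpow_natCast]
    exact Units.ext h2
  rcases mul_eq_zero.1 h0 with h | h
  · omega
  · exact h

variable {B}

/-- A rational point of an open lifts to it. -/
theorem exists_res_point {W : X.left.Opens} (y : 𝟙_ (Over (Sk k)) ⟶ X)
    (hy : y.left (IsLocalRing.closedPoint k) ∈ W) : ∃ y' : 𝟙_ (Over (Sk k)) ⟶ resObj X W, y' ≫ resIncl X W = y := by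
  have hr : Set.range y.left ⊆ Set.range W.ι := by
    rintro _ ⟨z, rfl⟩
    rw [W.range_ι, Subsingleton.elim (α := PrimeSpectrum k) z (IsLocalRing.closedPoint k)]
    exact hy
  exact ⟨Over.homMk (IsOpenImmersion.lift W.ι y.left hr) (by
    show _ ≫ W.ι ≫ X.hom = _
    rw [IsOpenImmersion.lift_fac_assoc, Over.w y]), Over.OverMorphism.ext (IsOpenImmersion.lift_fac _ _ _)⟩

theorem res_point_mem {W : X.left.Opens} (y : 𝟙_ (Over (Sk k)) ⟶ resObj X W) :
    (y ≫ resIncl X W).left (IsLocalRing.closedPoint k) ∈ W :=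
  (y.left (IsLocalRing.closedPoint k)).2

variable {A : Type u} [CommRing A] [HopfAlgebra k A]

/-- The trivial subgroup comes only from the trivial bialgebra map. -/
theorem isTrivial_of_eq_one (v : G ≅ CoactBr.sp k A) [IsMonHom v.hom] {lam : A →ₐc[k] LaurentPolynomial k}
    (h : ∀ u : 𝟙_ (Over (Sk k)) ⟶ Red.Gm (Sk k),
      ptQ v (u ≫ (1 : Red.Gm (Sk k) ⟶ G))⁻¹ = toConv ((evT (par u)).comp (lam : A →ₐ[k] LaurentPolynomial k))) :
    SGA3t2b.IsTrivialBialgHom lam := fun x => by
  rw [← sub_eq_zero]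
  refine eq_zero_of_forall_evT fun t => ?_
  have h1 := congrArg (fun q : WithConv (A →ₐ[k] k) => q.ofConv x) (h (ofPar t))
  simp only [MonObj.comp_one, inv_one, ptQ_one, par_ofPar] at h1
  rw [map_sub, AlgHom.commutes, sub_eq_zero]
  exact h1.symm.trans (by simp)

/-- Finite stabiliser of the algebra point gives finite stabiliser. -/
theorem finite_stab_points [IsAffine G.left] (v : G ≅ CoactBr.sp k A) [IsMonHom v.hom] [IsMonHom v.inv]
    {W : X.left.Opens} {R : Type u} [CommRing R] [Algebra k R] [HopfRep.Comod k A R] [GLin.IsCoactAlg k A R]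
    (u : resObj X W ≅ CoactBr.sp k R) {aW : AlgGrp.Action G (resObj X W)}
    (haW : aW.act ≫ resIncl X W = (G ◁ resIncl X W) ≫ a.act)
    (hr : CoactBr.ract k A R = H20LRQ.conjAct aW v u) (y : 𝟙_ (Over (Sk k)) ⟶ resObj X W)
    (h : H20Comod.Stability.FinStab A (ptX u y)) :
    {g : 𝟙_ (Over (Sk k)) ⟶ G | lift g (y ≫ resIncl X W) ≫ a.act = y ≫ resIncl X W}.Finite := by
  refine Set.Finite.of_finite_image (f := fun g => (ptQ v g⁻¹).ofConv) (h.subset ?_)
    fun g _ g' _ e => inv_injective (ptQ_injective v (WithConv.ofConv_injective e))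
  rintro _ ⟨g, hg, rfl⟩
  show GLin.actPt k (ptQ v g⁻¹).ofConv (ptX u y) = ptX u y
  rw [← ptX_act u v hr, show lift g y ≫ aW.act = y from (cancel_mono (resIncl X W)).1 (by
    rw [Category.assoc, haW, lift_whiskerLeft_assoc]
    exact hg)]

variable (B) [IsProper X.hom] [CharZero k] [IsAffine G.left] [Smooth G.hom] [Algebra.FiniteType k A]

/-- Properly stable points have positive numerical function. -/
theorem pos_of_isProperlyStablePt (hB : HMNum.AmpleCover B) (x : 𝟙_ (Over (Sk k)) ⟶ X)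
    (hx : B.IsProperlyStablePt (x.left (IsLocalRing.closedPoint k))) (l : Red.Gm (Sk k) ⟶ G) [IsMonHom l]
    (hl : l ≠ 1) (m : ℤ) (hm : HMNum.IsMu B l x m) : 0 < m := by
  obtain ⟨⟨n, f, hn, hf, hxf, U, hU, -, hcl⟩, hst⟩ := hx
  refine lt_of_le_of_ne (fibreWeight_nonpos B hB hn hf x hxf l m hm) fun h0 => hl ?_
  subst h0
  obtain ⟨y, hlim, hw⟩ := hm
  have hyU : y.left (IsLocalRing.closedPoint k) ∈ U := by
    have := limit_mem B hB hn hf x y hxf l hlim (by simpa using hw)
    rw [← hU] at this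
    exact this
  haveI : QuasiCompact G.hom := inferInstance
  obtain ⟨g, rfl⟩ := exists_translate_of_closedOrbitsOn hcl x y (show _ ∈ (U : Set X.left) from hU ▸ hxf) hyU l hlim
  have hfin := hst k (𝟙_ (Over (Sk k))) (Iso.refl _) x (Set.eq_singleton_iff_unique_mem.2
    ⟨⟨IsLocalRing.closedPoint k, rfl⟩, fun z ⟨t, ht⟩ => by
      rw [← ht, Subsingleton.elim (α := PrimeSpectrum k) t (IsLocalRing.closedPoint k)]⟩)
  rw [H20Prop.isFinite_stabTo_iff a (Iso.refl _)] at hfin
  exact eq_one_of_fixed x (Set.finite_coe_iff.1 hfin) g l (isFixedBy_of_isLimitPt l x _ hlim)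

/-- Points with positive numerical function are properly stable. -/
theorem isProperlyStablePt_of_pos (hA : HopfRep.IsLinearlyReductive k A) (hB : HMNum.AmpleCover B)
    (v : G ≅ CoactBr.sp k A) [IsMonHom v.hom] [IsMonHom v.inv] (x : 𝟙_ (Over (Sk k)) ⟶ X)
    (H : ∀ (l : Red.Gm (Sk k) ⟶ G) [IsMonHom l], l ≠ 1 → ∀ m : ℤ, HMNum.IsMu B l x m → 0 < m) :
    B.IsProperlyStablePt (x.left (IsLocalRing.closedPoint k)) := by
  classical
  haveI := hB.1
  haveI : QuasiCompact G.hom := inferInstance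
  obtain ⟨α, hα, h1⟩ := H20Comod.isLinearlyReductive_iff_exists_isIntegral.1 hA
  obtain ⟨n, s0, hn, hs0, hx0, U, hU, haff⟩ := (isSemistablePt_iff_forall B hA hB v x).2 fun l _ m hm => by
    rcases eq_or_ne l 1 with rfl | hl
    · exact (eq_zero_of_isMu_one B (fun u => MonObj.comp_one u) hm).ge
    · exact (H l hl m hm).le
  let W := nvOpen B.π s0
  obtain rfl : U = W := TopologicalSpace.Opens.ext (hU.trans (coe_nvOpen B.atlas hs0.1).symm)
  have hxW : x.left (IsLocalRing.closedPoint k) ∈ W := (coe_nvOpen B.atlas hs0.1).ge hx0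
  haveI : IsAffine (resObj X W).left := haff
  haveI : LocallyOfFiniteType (resObj X W).hom := inferInstanceAs (LocallyOfFiniteType (W.ι ≫ X.hom))
  haveI : QuasiCompact (resObj X W).hom := inferInstance
  obtain ⟨aW, haW⟩ := H20GQ.exists_action_open a W (preimage_nvOpen hs0)
  obtain ⟨R, _, _, ⟨u⟩⟩ := H20LRQ.exists_affine_model (resObj X W)
  haveI : Algebra.FiniteType k R := finiteType_ring u
  obtain ⟨co, hco, hr⟩ := H20LRQ.exists_coaction_of_action aW v u
  letI := co
  haveI := hco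
  obtain ⟨xW, hxW'⟩ := exists_res_point x hxW
  obtain ⟨hc0, hf0⟩ := stablePt_of_no_limit hA (ptX u xW) fun lam h hh => by
    obtain ⟨l, hl, hlq⟩ := exists_onePS v lam
    haveI := hl
    rcases eq_or_ne l 1 with rfl | hl1
    · exact isTrivial_of_eq_one v hlq
    exfalso
    obtain ⟨g', hg'⟩ := Fn.exists_hom (X := Pl k) (Y := resObj X W)
      ((plEquiv (k := k)).toAlgHom.comp (h.comp (fnIso u).symm.toAlgHom))
    have hval : ∀ c r, ptX u (plPt c ≫ g') r = (h r).eval c := fun c r => by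
      rw [ptX_apply, ← val_pull, hg']
      simp [val_plPt]
    have horb' : ∀ t : 𝟙_ (Over (Sk k)) ⟶ Red.Gm (Sk k), plPt (par t : k) ≫ g' = lift (t ≫ l) xW ≫ aW.act := fun t => by
      refine ptX_injective u (AlgHom.ext fun r => ?_)
      rw [hval, ptX_act u v hr, hlq]
      show _ = evT (par t) (GLin.lamOrbit k A lam (ptX u xW) r)
      rw [← hh, evT_toLaurent]
    obtain ⟨φ, hlim, horb⟩ := exists_line_extension a l x
    have hφ : φ = g' ≫ resIncl X W := line_ext fun c hc => by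
      have e := horb (ofPar (Units.mk0 c hc))
      have e' := horb' (ofPar (Units.mk0 c hc))
      rw [par_ofPar, Units.val_mk0] at e e'
      rw [e, ← Category.assoc (plPt c), e', Category.assoc, haW, lift_whiskerLeft_assoc, hxW']
    subst hφ
    have hy : (plPt (0 : k) ≫ g' ≫ resIncl X W).left (IsLocalRing.closedPoint k) ∈ GLinSh.nonvanishing B.π s0 := by
      rw [← Category.assoc]
      exact (coe_nvOpen B.atlas hs0.1).le (res_point_mem _)
    obtain ⟨w, hw⟩ := exists_fibreWeight B l _ (isFixedBy_of_isLimitPt l x _ hlim)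
    obtain rfl := weight_eq_zero B hn hs0 l hy hw
    exact lt_irrefl _ (H l hl1 0 ⟨_, hlim, by simpa using hw⟩)
  haveI : QuasiSeparatedSpace X.left := quasiSeparatedSpace_of_quasiSeparated X.hom
  haveI : IsOpenImmersion (resIncl X W).left := inferInstanceAs (IsOpenImmersion W.ι)
  haveI : _root_.IsReduced A := H19Grp.HopfReduced.isReduced (k := k) (A := A)
  obtain ⟨S, hS, hS'⟩ := H20Comod.Stability.exists_stable_cutting (R := R) hα h1
  obtain ⟨b, hbS, hxb⟩ := (hS' _).1 ⟨hc0, hf0⟩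
  -- the invariant function on `W`, and the section cutting out its non-vanishing locus
  let h' : Γ(X.left, W) := W.topIso.hom (fnIso u b : Γ((resObj X W).left, ⊤))
  have hle : ⊤ ≤ (resIncl X W).left ⁻¹ᵁ W := fun z _ => z.2
  have hh' : (resIncl X W).left.appLE W ⊤ hle h' = (fnIso u b : Γ((resObj X W).left, ⊤)) := by
    show W.ι.appLE W ⊤ hle (W.topIso.hom _) = _
    rw [← CommRingCat.comp_apply, Scheme.Opens.ι_appLE, Scheme.Opens.topIso_hom, ← Functor.map_comp]
    exact congr($(X.left.presheaf.map_id _).hom _)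
  have hinv : IsInvOn a W h' := by
    rw [isInvOn_iff (preimage_nvOpen hs0).ge (resIncl X W) W.range_ι aW haW h' hle, hh']
    exact (H20LRQ.invariant_fn_iff aW v u hr b).2 (hS hbS)
  obtain ⟨N, g, hg, hgr⟩ := H20SS.exists_extension hs0 h' hinv
  have hWN : W ≤ nvOpen B.π (s0 ^ N) := by
    rcases Nat.eq_zero_or_pos N with rfl | hN
    · rw [pow_zero, nvOpen_one B.atlas]
      exact le_top
    · exact (nvOpen_pow B.atlas hs0.1 hN).ge
  let W' : X.left.Opens := X.left.basicOpen h'
  have hW's : W' = nvOpen B.π (g * s0) := by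
    show X.left.basicOpen h' = _
    rw [basicOpen_of_isRatio B.atlas (hasWeight_pow B.atlas hs0.1 N) hg.1 hWN hgr, nvOpen_mul B.atlas hg.1 hs0.1,
      inf_comm]
  have hsinv : B.IsInvSection (N * n + n) (g * s0) := isInvSection_mul hg hs0
  have hW'le : W' ≤ W := X.left.basicOpen_le h'
  have hbo : (resIncl X W).left ⁻¹ᵁ W' = (resObj X W).left.basicOpen (fnIso u b : Γ((resObj X W).left, ⊤)) := by
    rw [Scheme.preimage_basicOpen, ← hh', Scheme.Hom.appLE, CommRingCat.comp_apply, Scheme.basicOpen_res]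
    exact (top_inf_eq _).symm
  have hmem : ∀ y : 𝟙_ (Over (Sk k)) ⟶ resObj X W,
      (y ≫ resIncl X W).left (IsLocalRing.closedPoint k) ∈ W' ↔ ptX u y b ≠ 0 := fun y =>
    (SetLike.ext_iff.1 hbo (y.left (IsLocalRing.closedPoint k))).trans (mem_basicOpen_iff y (fnIso u b))
  have hxW'2 : x.left (IsLocalRing.closedPoint k) ∈ W' := by
    rw [← hxW']
    exact (hmem xW).2 hxb
  -- closed orbits on the smaller open
  haveI : IsAffine (resObj X W').left := haff.basicOpen h'
  haveI : LocallyOfFiniteType (resObj X W').hom := inferInstanceAs (LocallyOfFiniteType (W'.ι ≫ X.hom))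
  haveI : QuasiCompact (resObj X W').hom := inferInstance
  obtain ⟨a', ha'⟩ := H20GQ.exists_action_open a W' (by rw [hW's]; exact preimage_nvOpen hsinv)
  let i' : resObj X W' ⟶ resObj X W := Over.homMk (X.left.homOfLE hW'le) (by
    show _ ≫ W.ι ≫ X.hom = W'.ι ≫ X.hom
    rw [Scheme.homOfLE_ι_assoc])
  have hi' : i' ≫ resIncl X W = resIncl X W' := Over.OverMorphism.ext (X.left.homOfLE_ι hW'le)
  have ha'' : a'.act ≫ i' = (G ◁ i') ≫ aW.act := by
    rw [← cancel_mono (resIncl X W), Category.assoc, hi', ha', Category.assoc, haW, ← whiskerLeft_comp_assoc, hi']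
  let C := GLin.invariants k A R
  have hC : H20LRQ.IsInvRing k A R C := H20LRQ.isInvRing_invariants
  have hφ : GIT.IsInvariant a' (i' ≫ H20LRQ.quotMap (C := C) u) := by
    unfold GIT.IsInvariant
    rw [← Category.assoc, ha'', Category.assoc, H20LRQ.isInvariant_quotMap aW v u hr hC, whiskerLeft_snd_assoc]
  have hsurj : Function.Surjective (GIT.PsiY a' (i' ≫ H20LRQ.quotMap (C := C) u) hφ).base := by
    refine surjective_psiY_of_points hφ fun y₁ y₂ hy => ?_
    have hz : ∀ y : 𝟙_ (Over (Sk k)) ⟶ resObj X W', GLin.IsClosedOrbit k A (ptX u (y ≫ i')) ∧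
        H20Comod.Stability.FinStab A (ptX u (y ≫ i')) := fun y =>
      (hS' _).2 ⟨b, hbS, (hmem _).1 (by rw [Category.assoc, hi']; exact res_point_mem y)⟩
    have hagree : ∀ c ∈ GLin.invariants k A R, ptX u (y₁ ≫ i') c = ptX u (y₂ ≫ i') c := fun c hc => by
      have e : ∀ y : 𝟙_ (Over (Sk k)) ⟶ resObj X W', ptX u (y ≫ i') c =
          val (y ≫ i' ≫ H20LRQ.quotMap (C := C) u) (Fn.specAlg (k := k) C ⟨c, hc⟩) := fun y => by
        rw [← Category.assoc, ← val_pull]
        exact congrArg (val (y ≫ i')) (H20LRQ.appTop_quotMap u (⟨c, hc⟩ : C)).symm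
      rw [e, e, hy]
    obtain ⟨q, hq⟩ := H20Comod.exists_actPt_eq_of_isClosedOrbit (hz y₂).1
      (H20Comod.Stability.inOrbitClosure_of_isClosedOrbit hα h1 (hz y₁).1 fun c hc => (hagree c hc).symm)
    obtain ⟨ζ, hζ⟩ := ptQ_surjective v (toConv q)
    refine ⟨ζ⁻¹, ?_⟩
    haveI : Mono i' := by
      haveI : Mono (i' ≫ resIncl X W) := hi'.symm ▸ inferInstance
      exact mono_of_mono i' (resIncl X W)
    rw [← cancel_mono i', Category.assoc, ha'', lift_whiskerLeft_assoc]
    refine ptX_injective u ?_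
    rw [ptX_act u v hr, inv_inv, hζ]
    exact hq.symm
  haveI : IsOpenImmersion (resIncl X W').left := inferInstanceAs (IsOpenImmersion W'.ι)
  have hcl : GLinSh.ClosedOrbitsOn a W' := closedOrbitsOn_of_isClosedAction (resIncl X W') W'.range_ι a' ha'
    (H20GQ.isClosedAction_of_orbit hφ hsurj)
  refine ⟨⟨N * n + n, g * s0, by omega, hsinv, ?_, W', ?_, haff.basicOpen h', hcl⟩, ?_⟩
  · exact (coe_nvOpen B.atlas hsinv.1).le (hW's ▸ hxW'2)
  · rw [hW's]
    exact coe_nvOpen B.atlas hsinv.1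
  · have hfin := finite_stab_points v u haW hr xW hf0
    rw [hxW'] at hfin
    have h2 := (H20Prop.isFinite_stabTo_iff a (Iso.refl _) x).2 hfin.to_subtype
    haveI : Finite (GLinSh.stab a x) := by
      haveI : Subsingleton (𝟙_ (Over (Sk k))).left := inferInstanceAs (Subsingleton (PrimeSpectrum k))
      exact Finite.of_finite_univ ((GLinSh.stabTo a x).finite_preimage (Set.finite_univ))
    exact H20Prop.finite_stab_of_mem (H20Prop.mem_finStabLocus_of_finite a (Iso.refl _) x inferInstance _)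

end Groth.Agent.H20Num
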